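import Cfsg.Agent.Lib.Helper5.CartanDieudonne

set_option autoImplicit false

/-!
# Isometries of odd order lie in the commutator subgroup of the isometry group
-/

open Cfsg

namespace Cfsg.Agent.Lib.Helper5.OUnip

open Matrix QuadraticMap Cfsg.Agent.Lib.Helper5.Refl Cfsg.Agent.Lib.Helper5.CartanDieudonne

variable {ι : Type} [Fintype ι] [DecidableEq ι] {F : Type*} [Field F]

/-- squares of isometries lie in `Ω` -/
theorem sq_mem_Omega (h2 : (2 : F) ≠ 0) (Q : QuadraticForm F (ι → F))
    (hQ : (polarBilin Q).Nondegenerate) (A : ↥(isometryGroup F ⇑Q)) :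
    A * A ∈ Omega F ⇑Q := by
  have hgen := reflSubgroup_eq_top h2 Q hQ
  unfold reflSubgroup at hgen
  have hhom : (powMonoidHom 2).comp (Abelianization.of (G := ↥(isometryGroup F ⇑Q))) = 1 := by
    refine MonoidHom.eq_of_eqOn_dense hgen ?_
    rintro g ⟨v, hv, hg⟩
    have hgg : g * g = 1 := by
      apply Subtype.ext
      apply Units.ext
      show ((g : Matrix.GeneralLinearGroup ι F) : Matrix ι ι F) *
        ((g : Matrix.GeneralLinearGroup ι F) : Matrix ι ι F) = 1
      rw [hg]
      exact reflection_mul_self Q v hv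
    show (Abelianization.of g) ^ 2 = 1
    rw [← map_pow, pow_two, hgg, map_one]
  have h1 : Abelianization.of (A * A) = 1 := by
    have := DFunLike.congr_fun hhom A
    rw [MonoidHom.comp_apply, powMonoidHom_apply, MonoidHom.one_apply, ← map_pow, pow_two] at this
    exact this
  have h3 : A * A ∈ (Abelianization.of (G := ↥(isometryGroup F ⇑Q))).ker := h1
  rwa [Abelianization.ker_of] at h3

/-- isometries of odd order lie in `Ω` -/
theorem mem_Omega_of_pow (h2 : (2 : F) ≠ 0) (Q : QuadraticForm F (ι → F))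
    (hQ : (polarBilin Q).Nondegenerate) (A : ↥(isometryGroup F ⇑Q)) {p : ℕ} (hp : Odd p)
    (hA : A ^ p = 1) : A ∈ Omega F ⇑Q := by
  obtain ⟨t, ht⟩ := hp
  have h1 : A = (A * A) ^ (t + 1) := by
    rw [← pow_two, ← pow_mul]
    have : 2 * (t + 1) = p + 1 := by omega
    rw [this, pow_succ, hA, one_mul]
  rw [h1]
  exact Subgroup.pow_mem _ (sq_mem_Omega h2 Q hQ A) _

end Cfsg.Agent.Lib.Helper5.OUnip
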