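import Cfsg.Agent.Lib.Helper5.SpUnip.SubType
import Cfsg.Agent.Lib.Helper2.SpImpA

set_option autoImplicit false

/-!
# Unipotent isometries of symmetric bilinear forms in odd characteristic: the Jordan type
-/

namespace Cfsg.Agent.Lib.Helper5.OUnip

open Module Cfsg.Agent.Lib.Helper5.SpUnip

universe u

variable {F : Type*} [Field F] {V : Type u} [AddCommGroup V] [Module F V]

/-- a skew endomorphism of a symmetric bilinear form -/
def IsSkew (B : LinearMap.BilinForm F V) (n : Module.End F V) : Prop :=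
  ∀ x y, B (n x) y = - B x (n y)

theorem IsSkew.pow {B : LinearMap.BilinForm F V} {n : Module.End F V} (h : IsSkew B n) (k : ℕ) :
    ∀ x y, B ((n ^ k) x) y = (-1) ^ k * B x ((n ^ k) y) := by
  induction k with
  | zero => intro x y; simp
  | succ k ih =>
    intro x y
    have e1 : (n ^ (k + 1)) x = n ((n ^ k) x) := by rw [pow_succ', Module.End.mul_apply]
    have e2 : (n ^ (k + 1)) y = (n ^ k) (n y) := by rw [pow_succ, Module.End.mul_apply]
    rw [e1, e2, h, ih, pow_succ]
    ring

/-- the values `B u (n^k u)` vanish for odd `k` -/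
theorem IsSkew.self_zero (h2 : (2 : F) ≠ 0) {B : LinearMap.BilinForm F V} {n : Module.End F V}
    (hs : ∀ x y, B x y = B y x) (h : IsSkew B n) {k : ℕ} (hk : Odd k) (u : V) :
    B u ((n ^ k) u) = 0 := by
  have h1 := h.pow k u u
  rw [hk.neg_one_pow, hs ((n ^ k) u) u] at h1
  have h3 : 2 * B u ((n ^ k) u) = 0 := by linear_combination h1
  rcases mul_eq_zero.1 h3 with h4 | h4
  · exact absurd h4 h2
  · exact h4

variable [FiniteDimensional F V]

/-- an endomorphism `T` with `B u (T u) = 0` for all `u` has even rank -/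
theorem even_rank_of_alt {B : LinearMap.BilinForm F V} (hs : ∀ x y, B x y = B y x)
    (hnd : ∀ x, (∀ y, B x y = 0) → x = 0) (T : Module.End F V) (hT : ∀ u, B u (T u) = 0) :
    Even (finrank F (LinearMap.range T)) := by
  have hsk : ∀ x y, B x (T y) = - B y (T x) := by
    intro x y
    have := hT (x + y)
    simp only [map_add, LinearMap.add_apply] at this
    rw [hT x, hT y] at this
    linear_combination this
  obtain ⟨Q, hQ⟩ := Submodule.exists_isCompl (LinearMap.ker T)
  have hΓA : (LinearMap.BilinForm.restrict (B.compl₂ T : LinearMap.BilinForm F V) Q).IsAlt := by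
    intro a
    exact hT a.1
  have hΓN : (LinearMap.BilinForm.restrict (B.compl₂ T : LinearMap.BilinForm F V)
      Q).Nondegenerate := by
    refine (hΓA.isRefl.nondegenerate_iff_separatingLeft).2 ?_
    intro a ha
    by_contra ha0
    have hTa : T a.1 ≠ 0 := by
      intro h0
      have : a.1 ∈ LinearMap.ker T ⊓ Q := ⟨h0, a.2⟩
      rw [hQ.disjoint.eq_bot] at this
      exact ha0 (Subtype.ext this)
    obtain ⟨b, hb⟩ : ∃ b, B b (T a.1) ≠ 0 := by
      by_contra hcon
      push Not at hcon
      apply hTa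
      apply hnd
      intro y
      rw [hs]
      exact hcon y
    have htop : b ∈ LinearMap.ker T ⊔ Q := by
      rw [hQ.sup_eq_top]
      trivial
    obtain ⟨ρ, hρ, b', hb', rfl⟩ := Submodule.mem_sup.1 htop
    apply hb
    have h1 : B ρ (T a.1) = 0 := by
      rw [hsk, LinearMap.mem_ker.1 hρ, map_zero, neg_zero]
    have h2 : B a.1 (T b') = 0 := ha ⟨b', hb'⟩
    rw [map_add, LinearMap.add_apply, h1, zero_add, hsk, h2, neg_zero]
  have hev : Even (finrank F ↥Q) :=
    Cfsg.Agent.Lib.Helper2.SpImp.even_of_nd _ hΓA hΓN _ ⊤ (finrank_top F _)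
      (Cfsg.Agent.Lib.Helper2.SpImp.nd_top _ hΓA hΓN)
  have h1 := LinearMap.finrank_range_add_finrank_ker T
  have h2 := Submodule.finrank_add_eq_of_isCompl hQ
  have : finrank F (LinearMap.range T) = finrank F ↥Q := by omega
  rw [this]
  exact hev

/-- the ranks of the odd powers of a skew endomorphism are even -/
theorem even_rk_of_skew (h2 : (2 : F) ≠ 0) {B : LinearMap.BilinForm F V}
    (hs : ∀ x y, B x y = B y x) (hnd : ∀ x, (∀ y, B x y = 0) → x = 0) {n : Module.End F V}
    (h : IsSkew B n) {k : ℕ} (hk : Odd k) : Even (rk n k) :=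
  even_rank_of_alt hs hnd (n ^ k) (h.self_zero h2 hs hk)

omit [FiniteDimensional F V] in
/-- the parts of even size occur with even multiplicity -/
theorem even_count_of_rk {μ : Multiset ℕ} (hpos : ∀ a ∈ μ, 0 < a) {n : Module.End F V}
    (hrk : ∀ k, rk n k = rsum μ k) (hodd : ∀ k, Odd k → Even (rk n k)) (e : ℕ) (he : Even e) :
    Even (μ.count e) := by
  rcases Nat.eq_zero_or_pos e with rfl | he0
  · rw [Multiset.count_eq_zero_of_notMem]
    · exact Even.zero
    · intro h0
      exact absurd (hpos 0 h0) (lt_irrefl 0)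
  · obtain ⟨j, rfl⟩ : ∃ j, e = j + 1 := ⟨e - 1, by omega⟩
    have hj : Odd j := by
      obtain ⟨t, ht⟩ := he
      exact ⟨t - 1, by omega⟩
    have hj2 : Odd (j + 2) := by
      obtain ⟨t, ht⟩ := hj
      exact ⟨t + 1, by omega⟩
    have h1 := count_add μ j
    have h3 := hodd j hj
    have h4 := hodd (j + 2) hj2
    rw [hrk] at h3 h4
    obtain ⟨a, ha⟩ := h3
    obtain ⟨b, hb⟩ := h4
    exact ⟨a + b - rsum μ (j + 1), by omega⟩

end Cfsg.Agent.Lib.Helper5.OUnip
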