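import Cfsg.Agent.Lib.Helper5.OUnip.MainPlus
import Cfsg.Agent.Lib.Helper5.SpinorHyp2

set_option autoImplicit false

/-!
# Unipotent elements of every admissible type in `Ω_{2d+1}(q)`, `q` odd
-/

open Cfsg

namespace Cfsg.Agent.Lib.Helper5.OUnip

open Module Matrix Cfsg.Agent.Lib.Helper5.SpUnip Cfsg.Agent.Lib.Helper5.CartanDieudonne
  Cfsg.Agent.Lib.Helper5.SpinorHyp2

universe u

variable {F : Type u} [Field F] {V : Type u} [AddCommGroup V] [Module F V]
  [FiniteDimensional F V]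

/-- coordinates in which the form is the standard form of odd dimension -/
theorem exists_std_equiv_odd (h2 : (2 : F) ≠ 0) {B : LinearMap.BilinForm F V}
    (hs : ∀ x y, B x y = B y x) (hnd : ∀ x, (∀ y, B x y = 0) → x = 0) {U : Submodule F V}
    (hU : IsTS B U) {w : V} (hwU : ∀ u ∈ U, B w u = 0) (hww : B w w = 2) {d : ℕ}
    (hdU : finrank F U = d) (hdV : finrank F V = 2 * d + 1) :
    ∃ φ : V ≃ₗ[F] (Unit ⊕ (Fin d ⊕ Fin d) → F),
      ∀ v, Cfsg.quadFormOdd d F (φ v) = 2⁻¹ * B v v := by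
  have hBw : B w ≠ 0 := by
    intro h
    have := LinearMap.congr_fun h w
    rw [hww] at this
    exact h2 this
  have hdP : finrank F (LinearMap.ker (B w)) = 2 * d := by
    have := Module.Dual.finrank_ker_add_one_of_ne_zero hBw
    omega
  -- the projection to the orthogonal complement of `w`
  obtain ⟨π, hπ⟩ : ∃ π : V →ₗ[F] V, ∀ v, π v = v - (2⁻¹ * B w v) • w :=
    ⟨LinearMap.id - LinearMap.smulRight ((2⁻¹ : F) • B w) w, fun v => by
      simp only [LinearMap.sub_apply, LinearMap.id_apply, LinearMap.smulRight_apply,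
        LinearMap.smul_apply, smul_eq_mul]⟩
  have hproj : ∀ v, π v ∈ LinearMap.ker (B w) := by
    intro v
    rw [LinearMap.mem_ker, hπ, map_sub, map_smul, smul_eq_mul, hww]
    field_simp
    ring
  have hdecomp : ∀ v, v = (2⁻¹ * B w v) • w + π v := by
    intro v
    rw [hπ]
    abel
  -- the restricted form
  have hsP : ∀ x y : ↥(LinearMap.ker (B w)), B.restrict (LinearMap.ker (B w)) x y =
      B.restrict (LinearMap.ker (B w)) y x := fun x y => hs x.1 y.1
  have hndP : ∀ x : ↥(LinearMap.ker (B w)),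
      (∀ y, B.restrict (LinearMap.ker (B w)) x y = 0) → x = 0 := by
    intro x hx
    apply Subtype.ext
    apply hnd
    intro v
    rw [hdecomp v, map_add, map_smul, hs x.1 w, LinearMap.mem_ker.1 x.2, smul_zero, zero_add]
    exact hx ⟨_, hproj v⟩
  have hUP : U ≤ LinearMap.ker (B w) := fun u hu => LinearMap.mem_ker.2 (hwU u hu)
  have hTSP : IsTS (B.restrict (LinearMap.ker (B w))) (U.comap (LinearMap.ker (B w)).subtype) :=
    fun x hx y hy => hU x.1 hx y.1 hy
  have hdUP : finrank F (U.comap (LinearMap.ker (B w)).subtype) = d := by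
    rw [LinearEquiv.finrank_eq (Submodule.comapSubtypeEquivOfLe hUP), hdU]
  obtain ⟨φ', hφ'⟩ := exists_std_equiv h2 hsP hndP hTSP hdUP hdP
  -- the coordinates
  obtain ⟨ψ, hψl, hψr⟩ : ∃ ψ : V →ₗ[F] (Unit ⊕ (Fin d ⊕ Fin d) → F),
      (∀ v, ψ v (Sum.inl ()) = 2⁻¹ * B w v) ∧
      ∀ v k, ψ v (Sum.inr k) = φ' ⟨π v, hproj v⟩ k :=
    ⟨(LinearEquiv.sumArrowLequivProdArrow Unit (Fin d ⊕ Fin d) F F).symm.toLinearMap.comp
      (LinearMap.prod (LinearMap.pi fun _ => (2⁻¹ : F) • B w)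
        (φ'.toLinearMap.comp (LinearMap.codRestrict (LinearMap.ker (B w)) π hproj))),
      fun v => rfl, fun v k => rfl⟩
  have hψQ : ∀ v, Cfsg.quadFormOdd d F (ψ v) = 2⁻¹ * B v v := by
    intro v
    have h1 : Cfsg.quadFormOdd d F (ψ v) = (2⁻¹ * B w v) ^ 2 + Cfsg.quadFormPlus d F
        (φ' ⟨π v, hproj v⟩) := by
      unfold Cfsg.quadFormOdd Cfsg.quadFormPlus
      rw [hψl]
      congr 1
      refine Finset.sum_congr rfl fun i _ => ?_
      rw [hψr, hψr]
    rw [h1, hφ']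
    have h3 : B v v = (2⁻¹ * B w v) ^ 2 * 2 + B (π v) (π v) := by
      have hk := LinearMap.mem_ker.1 (hproj v)
      conv_lhs => rw [hdecomp v]
      simp only [map_add, map_smul, LinearMap.add_apply, LinearMap.smul_apply, smul_eq_mul]
      rw [hww, hk, hs _ w, hk]
      ring
    show (2⁻¹ * B w v) ^ 2 + 2⁻¹ * B (π v) (π v) = 2⁻¹ * B v v
    rw [h3]
    field_simp
  have hinj : Function.Injective ψ := by
    rw [← LinearMap.ker_eq_bot, LinearMap.ker_eq_bot']
    intro v hv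
    have h1 : 2⁻¹ * B w v = 0 := by rw [← hψl, hv]; rfl
    have h3 : φ' ⟨π v, hproj v⟩ = 0 := by
      funext k
      rw [← hψr, hv]
      rfl
    have h4 := congrArg Subtype.val (φ'.map_eq_zero_iff.1 h3)
    rw [hdecomp v, h1, zero_smul, zero_add]
    exact h4
  have hfin : finrank F V = finrank F (Unit ⊕ (Fin d ⊕ Fin d) → F) := by
    rw [hdV, Module.finrank_fintype_fun_eq_card]
    simp
    omega
  exact ⟨LinearEquiv.ofInjectiveOfFinrankEq ψ hinj hfin, hψQ⟩

omit [FiniteDimensional F V] in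
/-- transporting the Cayley transform of a model to standard coordinates -/
theorem exists_unipotent_of_std {p : ℕ} [Fact p.Prime] [CharP F p] (hp2 : p ≠ 2) {ι : Type}
    [Fintype ι] [DecidableEq ι] (Q : QuadraticForm F (ι → F))
    (hQ : (QuadraticMap.polarBilin Q).Nondegenerate) {B : LinearMap.BilinForm F V}
    {N : Module.End F V} (hOM : IsOM B N) (hNp : N ^ p = 0) (φ : V ≃ₗ[F] (ι → F))
    (hφ : ∀ v, Q (φ v) = 2⁻¹ * B v v) :
    ∃ g : GL ι F, g ∈ Cfsg.Geo.omegaGL ⇑Q ∧ g ^ p = 1 ∧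
      (∀ v, Q (Matrix.toLin' (g : Matrix ι ι F) v) = Q v) ∧
      ∀ k, rk (Matrix.toLin' (g : Matrix ι ι F) - 1) k = rk N k := by
  have hp : p.Prime := Fact.out
  have hF : ringChar F ≠ 2 := by rw [ringChar.eq F p]; exact hp2
  have h2 : (2 : F) ≠ 0 := Ring.two_ne_zero hF
  have hpodd : Odd p := hp.odd_of_ne_two hp2
  obtain ⟨a, hr, har, hpow⟩ := exists_of_nilpotent hOM.nil
  have hap0 : (a - 1) ^ p = 0 := hpow p hNp
  have hap : a ^ p = 1 := by
    have := sub_one_pow_char (F := F) (p := p) a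
    rw [hap0] at this
    exact (sub_eq_zero.1 this.symm)
  have hnila : IsNilpotent (a - 1) := ⟨p, hap0⟩
  have hu : IsUnit (a + 1) := isUnit_add_one_of_nilpotent h2 hnila
  have hiso := isom_of_cayRel hOM.skew hOM.nil har
  have hau : IsUnit a := by
    have := hnila.isUnit_add_one
    rwa [sub_add_cancel] at this
  have hxu : IsUnit (φ.conj a) := hau.map φ.conjRingEquiv
  have hxQ : ∀ v, Q ((φ.conj a) v) = Q v := by
    intro v
    rw [LinearEquiv.conj_apply_apply, hφ, hiso, ← hφ, LinearEquiv.apply_symm_apply]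
  obtain ⟨A, hA⟩ := OrthCard.exists_isom_of_linearEquiv Q
    (LinearMap.GeneralLinearGroup.generalLinearEquiv F _ hxu.unit) (fun v => hxQ v)
  have hAl : Matrix.toLin' ((A : GL ι F) : Matrix ι ι F) = φ.conj a := by
    apply LinearMap.ext
    intro v
    rw [Matrix.toLin'_apply]
    exact hA v
  have hAp : A ^ p = 1 := by
    apply Subtype.ext
    apply Units.ext
    apply Matrix.toLin'.injective
    show Matrix.toLin' (((A : GL ι F) : Matrix ι ι F) ^ p) = Matrix.toLin' (1 : Matrix ι ι F)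
    rw [Cfsg.Agent.Lib.Helper2.SpImp.toLin'_pow_gen, hAl, Matrix.toLin'_one]
    apply LinearMap.ext
    intro v
    rw [conj_pow_apply, hap]
    simp
  have hAΩ : A ∈ Omega F ⇑Q := mem_Omega_of_pow h2 Q hQ A hpodd hAp
  refine ⟨(A : GL ι F), Subgroup.mem_map.2 ⟨A, hAΩ, rfl⟩, ?_, ?_, ?_⟩
  · have := congrArg Subtype.val hAp
    exact this
  · intro v
    rw [hAl]
    exact hxQ v
  · intro k
    rw [hAl, ← rk_of_cayRel hu hr k]
    symm
    refine rk_iso (B := 0) (B' := 0) ⟨φ, fun _ _ => rfl, fun v => ?_⟩ k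
    simp [LinearEquiv.conj_apply_apply]

omit [FiniteDimensional F V] in
theorem exists_unipotent_odd {p : ℕ} [Fact p.Prime] [CharP F p] (hp2 : p ≠ 2) (d : ℕ)
    (μ : Multiset ℕ) (hμ : ∀ a ∈ μ, 0 < a ∧ a ≤ p) (hev : ∀ e : ℕ, Even e → Even (μ.count e))
    (hsum : μ.sum = 2 * d + 1) :
    ∃ g : GL (Unit ⊕ (Fin d ⊕ Fin d)) F, g ∈ Cfsg.Geo.omegaGL ⇑(oddForm d F) ∧ g ^ p = 1 ∧
      (∀ v, oddForm d F (Matrix.toLin'
        (g : Matrix (Unit ⊕ (Fin d ⊕ Fin d)) (Unit ⊕ (Fin d ⊕ Fin d)) F) v) = oddForm d F v) ∧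
      ∀ k, rk (Matrix.toLin'
        (g : Matrix (Unit ⊕ (Fin d ⊕ Fin d)) (Unit ⊕ (Fin d ⊕ Fin d)) F) - 1) k = rsum μ k := by
  have hF : ringChar F ≠ 2 := by rw [ringChar.eq F p]; exact hp2
  have h2 : (2 : F) ≠ 0 := Ring.two_ne_zero hF
  obtain ⟨-, hO⟩ := exists_models (F := F) one_ne_zero _ μ rfl (fun a ha => (hμ a ha).1) hev
  obtain ⟨V', i1, i2, i3, B, N, U, w, hOM, hrk, hTS, hdim, hwU, hww⟩ :=
    hO (hsum ▸ ⟨d, rfl⟩) 2 h2
  have hdV : finrank F V' = 2 * d + 1 := by rw [← rk_zero N, hrk, rsum_zero, hsum]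
  have hdU : finrank F U = d := by omega
  have hNp : N ^ p = 0 := by
    rw [← rk_eq_zero_iff, hrk, rsum_eq_zero_iff]
    exact fun a ha => (hμ a ha).2
  obtain ⟨φ, hφ⟩ := exists_std_equiv_odd h2 hOM.symm hOM.nondeg hTS hwU hww hdU hdV
  obtain ⟨g, h1, h3, h4, h5⟩ := exists_unipotent_of_std hp2 (oddForm d F)
    (oddForm_nondegenerate h2 d) hOM hNp φ (fun v => by rw [oddForm_apply]; exact hφ v)
  exact ⟨g, h1, h3, h4, fun k => by rw [h5, hrk]⟩

end Cfsg.Agent.Lib.Helper5.OUnip
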