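import Cfsg.Agent.Lib.Helper5.OUnip.Odd

set_option autoImplicit false

/-!
# `Ω_{2d+1}(q)`, `q` odd, on nondegenerate subspaces: the elements of order `p`
-/

open Cfsg

namespace Cfsg.Agent.Lib.Helper5.OUnip

open Module Matrix Cfsg.Agent.Lib.Helper5.SpUnip Cfsg.Agent.Lib.Helper5.SpinorHyp2

universe u

theorem sum_two_kinds (a b : ℕ) (hab : a ≠ b) (ν : Multiset ℕ) (h : ∀ x ∈ ν, x = a ∨ x = b) :
    ν.sum = a * ν.count a + b * ν.count b := by
  induction ν using Multiset.induction with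
  | empty => simp
  | cons x ν ih =>
    have ih' := ih (fun y hy => h y (Multiset.mem_cons_of_mem hy))
    rw [Multiset.sum_cons, ih']
    rcases h x (Multiset.mem_cons_self x ν) with rfl | rfl
    · rw [Multiset.count_cons_self, Multiset.count_cons_of_ne (Ne.symm hab)]
      ring
    · rw [Multiset.count_cons_self, Multiset.count_cons_of_ne hab]
      ring

/-- the partition condition forces `m ≡ 0` modulo four -/
theorem mod_four_of_cond {p d m : ℕ} (hp3 : 3 ≤ p) (hme : Even m)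
    (P : ∀ μ : Multiset ℕ, (∀ e ∈ μ, 0 < e ∧ e ≤ p) → (∀ e : ℕ, Even e → Even (μ.count e)) →
      μ.sum = 2 * d + 1 →
      ∃ ν : Multiset ℕ, ν ≤ μ ∧ ν.sum = m ∧ ∀ e : ℕ, Even e → Even (ν.count e)) :
    m % 4 = 0 := by
  have key : ∀ (n b : ℕ), Even n → Odd b → b ≤ p → n * 2 + b = 2 * d + 1 → m % 4 = 0 := by
    intro n b hn hb hbp hsum
    have hb2 : b ≠ 2 := by
      rintro rfl
      exact absurd hb (by decide)
    have hb0 : 0 < b := hb.pos
    obtain ⟨ν, hle, hνsum, hνev⟩ := P (Multiset.replicate n 2 + {b}) (by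
        intro e he
        rcases Multiset.mem_add.1 he with h | h
        · rw [Multiset.eq_of_mem_replicate h]
          omega
        · rw [Multiset.mem_singleton.1 h]
          exact ⟨hb0, hbp⟩) (by
        intro e he
        rw [Multiset.count_add, Multiset.count_replicate, Multiset.count_singleton]
        have heb : e ≠ b := by
          rintro rfl
          exact (Nat.not_even_iff_odd.2 hb) he
        rw [if_neg heb, add_zero]
        split_ifs
        · exact hn
        · exact Even.zero) (by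
        rw [Multiset.sum_add, Multiset.sum_replicate, Multiset.sum_singleton, smul_eq_mul, hsum])
    have hmem : ∀ x ∈ ν, x = 2 ∨ x = b := by
      intro x hx
      rcases Multiset.mem_add.1 (Multiset.mem_of_le hle hx) with h | h
      · exact Or.inl (Multiset.eq_of_mem_replicate h)
      · exact Or.inr (Multiset.mem_singleton.1 h)
    have h1 := sum_two_kinds 2 b (Ne.symm hb2) ν hmem
    have h2 : ν.count b ≤ 1 := by
      have := Multiset.count_le_of_le b hle
      rw [Multiset.count_add, Multiset.count_replicate, Multiset.count_singleton,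
        if_neg (Ne.symm hb2), if_pos rfl] at this
      exact this
    obtain ⟨l, hl⟩ := hνev 2 even_two
    obtain ⟨m2, hm2⟩ := hme
    obtain ⟨b2, hb2'⟩ := hb
    rw [hνsum] at h1
    interval_cases hc : ν.count b
    · omega
    · exfalso
      omega
  rcases Nat.even_or_odd d with hd | hd
  · exact key d 1 hd odd_one (by omega) (by omega)
  · obtain ⟨t, ht⟩ := hd
    exact key (d - 1) 3 ⟨t, by omega⟩ (by decide) hp3 (by omega)

variable {F : Type u} [Field F]

theorem odd_only_if {p : ℕ} [Fact p.Prime] [CharP F p] (hp2 : p ≠ 2) (d m : ℕ) (hme : Even m)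
    (hm : m ≤ 2 * d)
    (H : ∀ x : GL (Unit ⊕ (Fin d ⊕ Fin d)) F, x ∈ Cfsg.Geo.omegaGL (Cfsg.quadFormOdd d F) →
      orderOf x = p →
      ∃ W : Submodule F (Unit ⊕ (Fin d ⊕ Fin d) → F), (Module.finrank F ↥W = m ∧
        Cfsg.Geo.IsNondegenerateOn (QuadraticMap.polar (Cfsg.quadFormOdd d F)) W ∧
        Cfsg.Geo.IsPlusTypeOn (Cfsg.quadFormOdd d F) W) ∧
        W.map (Matrix.toLin' (x : Matrix (Unit ⊕ (Fin d ⊕ Fin d))
          (Unit ⊕ (Fin d ⊕ Fin d)) F)) ≤ W) :
    m % 4 = 0 ∧ ∀ μ : Multiset ℕ, (∀ e ∈ μ, 0 < e ∧ e ≤ p) →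
      (∀ e : ℕ, Even e → Even (μ.count e)) → μ.sum = 2 * d + 1 →
      ∃ ν : Multiset ℕ, ν ≤ μ ∧ ν.sum = m ∧ ∀ e : ℕ, Even e → Even (ν.count e) := by
  have hp : p.Prime := Fact.out
  have hp3 : 3 ≤ p := by
    have := hp.two_le
    omega
  have hF : ringChar F ≠ 2 := by rw [ringChar.eq F p]; exact hp2
  have h2 : (2 : F) ≠ 0 := Ring.two_ne_zero hF
  have P : ∀ μ : Multiset ℕ, (∀ e ∈ μ, 0 < e ∧ e ≤ p) →
      (∀ e : ℕ, Even e → Even (μ.count e)) → μ.sum = 2 * d + 1 →
      ∃ ν : Multiset ℕ, ν ≤ μ ∧ ν.sum = m ∧ ∀ e : ℕ, Even e → Even (ν.count e) := by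
    intro μ hμ hev hsum
    by_cases hone : ∀ a ∈ μ, a = 1
    · exact sub_of_ones hone (by omega)
    push Not at hone
    obtain ⟨a₀, ha₀, ha₀1⟩ := hone
    have hpos : ∀ b ∈ μ, 0 < b := fun b hb => (hμ b hb).1
    obtain ⟨g, hgΩ, hgp, hgQ, hgrk⟩ := exists_unipotent_odd (F := F) hp2 d μ hμ hev hsum
    have hr1 : rsum μ 1 ≠ 0 := by
      rw [Ne, rsum_eq_zero_iff]
      intro h
      have := h a₀ ha₀
      have := (hμ a₀ ha₀).1
      omega
    have hg1 : g ≠ 1 := by
      rintro rfl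
      apply hr1
      rw [← hgrk]
      have h0 : Matrix.toLin' ((1 : GL (Unit ⊕ (Fin d ⊕ Fin d)) F) :
          Matrix (Unit ⊕ (Fin d ⊕ Fin d)) (Unit ⊕ (Fin d ⊕ Fin d)) F) - 1 = 0 := by
        rw [Units.val_one, Matrix.toLin'_one]
        exact sub_self _
      rw [h0, rk_eq_zero_iff, pow_one]
    obtain ⟨W, ⟨hWdim, hWnd, -⟩, hWinv⟩ := H g (by rw [← coe_oddForm]; exact hgΩ)
      (orderOf_eq_prime hgp hg1)
    obtain ⟨ν, hle, hνsum, hνev⟩ := exists_sub_type_quad h2 (oddForm d F) hgQ hpos hgrk hWinv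
      (by rw [coe_oddForm]; exact hWnd)
    exact ⟨ν, hle, by rw [hνsum, hWdim], hνev⟩
  exact ⟨mod_four_of_cond hp3 hme P, P⟩

end Cfsg.Agent.Lib.Helper5.OUnip
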