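import Cfsg.Agent.Lib.Helper5.OUnip.MainPlus

set_option autoImplicit false

/-!
# The type of a unipotent isometry on an invariant nondegenerate subspace, with its ranks;
subspaces on which the type consists of blocks of size two are of plus type
-/

open Cfsg

namespace Cfsg.Agent.Lib.Helper5.OUnip

open Module Matrix Cfsg.Agent.Lib.Helper5.SpUnip

universe u

section bil

variable {F : Type u} [Field F] {V : Type u} [AddCommGroup V] [Module F V]
  [FiniteDimensional F V]

/-- the type of a unipotent isometry on an invariant nondegenerate subspace, with the ranks -/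
theorem exists_sub_type_rk (h2 : (2 : F) ≠ 0) {B : LinearMap.BilinForm F V}
    (hs : ∀ x y, B x y = B y x) {a : Module.End F V}
    (ha : ∀ x y, B (a x) (a y) = B x y) (hnil : IsNilpotent (a - 1)) {μ : Multiset ℕ}
    (hpos : ∀ b ∈ μ, 0 < b) (hrk : ∀ k, rk (a - 1) k = rsum μ k) {W : Submodule F V}
    (hWn : ∀ w ∈ W, (a - 1) w ∈ W) (hW : ∀ w ∈ W, (∀ w' ∈ W, B w w' = 0) → w = 0) :
    ∃ ν : Multiset ℕ, ν ≤ μ ∧ ν.sum = finrank F W ∧ (∀ e, Even e → Even (ν.count e)) ∧
      ∀ k, rk ((a - 1).restrict hWn) k = rsum ν k := by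
  have hWa : ∀ w ∈ W, a w ∈ W := fun w hw => by
    have := W.add_mem (hWn w hw) hw
    rwa [LinearMap.sub_apply, Module.End.one_apply, sub_add_cancel] at this
  have hrefl : B.IsRefl := fun x y h => by rw [hs]; exact h
  have hrefl' : (B.restrict W).IsRefl := fun x y h => hrefl x.1 y.1 h
  have hWnd : (B.restrict W).Nondegenerate := by
    refine (hrefl'.nondegenerate_iff_separatingLeft).2 ?_
    intro x hx
    apply Subtype.ext
    exact hW x.1 x.2 (fun w' hw' => hx ⟨w', hw'⟩)
  have hc : IsCompl W (B.orthogonal W) :=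
    LinearMap.BilinForm.isCompl_orthogonal_of_restrict_nondegenerate hrefl hWnd
  have hau : IsUnit a := by
    have := hnil.isUnit_add_one
    rwa [sub_add_cancel] at this
  have hainj : Function.Injective ⇑a := ((Module.End.isUnit_iff _).1 hau).1
  have hmap : W.map a = W := by
    apply Submodule.eq_of_le_of_finrank_eq
    · rintro _ ⟨w, hw, rfl⟩
      exact hWa w hw
    · exact LinearEquiv.finrank_eq (Submodule.equivMapOfInjective a hainj W).symm
  have hW'a : ∀ v ∈ B.orthogonal W, a v ∈ B.orthogonal W := by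
    intro v hv
    rw [LinearMap.BilinForm.mem_orthogonal_iff] at hv ⊢
    intro w hw
    rw [← hmap] at hw
    obtain ⟨w₀, hw₀, rfl⟩ := hw
    show B (a w₀) (a v) = 0
    rw [ha]
    exact hv w₀ hw₀
  have hW'n : ∀ v ∈ B.orthogonal W, (a - 1) v ∈ B.orthogonal W := fun v hv => by
    rw [LinearMap.sub_apply, Module.End.one_apply]
    exact Submodule.sub_mem _ (hW'a v hv) hv
  obtain ⟨ν, hle, hposν, hrkν⟩ := type_of_isCompl hnil hpos hrk hWn hW'n hc
  refine ⟨ν, hle, ?_, ?_, hrkν⟩
  · rw [← rsum_zero, ← hrkν, rk_zero]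
  · have hres : (a - 1).restrict hWn = a.restrict hWa - 1 := by
      apply LinearMap.ext
      intro x
      apply Subtype.ext
      rfl
    have hrkν' := hrkν
    rw [hres] at hrkν'
    have hnilW : IsNilpotent (a.restrict hWa - 1) := by
      rw [← hres]
      obtain ⟨j, hj⟩ := hnil
      refine ⟨j, ?_⟩
      apply LinearMap.ext
      intro x
      apply Subtype.ext
      rw [restrict_pow_apply, hj]
      rfl
    exact even_count_of_isom h2 (B := B.restrict W) (fun x y => hs x.1 y.1)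
      (fun x hx => hWnd.1 x hx) (a := a.restrict hWa) (fun x y => ha x.1 y.1) hnilW hposν hrkν'

end bil

/-- `rsum` of a multiset of twos -/
theorem rsum_of_twos {ν : Multiset ℕ} (h : ∀ x ∈ ν, x = 2) :
    rsum ν 1 = Multiset.card ν ∧ rsum ν 2 = 0 ∧ ν.sum = 2 * Multiset.card ν := by
  have hν : ν = Multiset.replicate (Multiset.card ν) 2 := Multiset.eq_replicate_card.2 h
  refine ⟨?_, ?_, ?_⟩
  · conv_lhs => rw [hν]
    unfold rsum
    simp
  · rw [rsum_eq_zero_iff]
    intro x hx
    rw [h x hx]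
  · conv_lhs => rw [hν]
    simp [mul_comm]

section quad

variable {F : Type u} [Field F]

/-- the type of a unipotent isometry on an invariant nondegenerate subspace not of plus type
has a part other than two -/
theorem exists_sub_type_quad_minus (h2 : (2 : F) ≠ 0) {ι : Type} [Fintype ι] [DecidableEq ι]
    (Q : QuadraticForm F (ι → F)) {a : Module.End F (ι → F)} (ha : ∀ v, Q (a v) = Q v)
    {μ : Multiset ℕ} (hpos : ∀ b ∈ μ, 0 < b) (hrk : ∀ k, rk (a - 1) k = rsum μ k)
    {W : Submodule F (ι → F)} (hWa : W.map a ≤ W)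
    (hW : Cfsg.Geo.IsNondegenerateOn (QuadraticMap.polar ⇑Q) W)
    (hnp : ¬ Cfsg.Geo.IsPlusTypeOn ⇑Q W) :
    ∃ ν : Multiset ℕ, ν ≤ μ ∧ ν.sum = finrank F W ∧ (∀ e : ℕ, Even e → Even (ν.count e)) ∧
      ∃ x ∈ ν, x ≠ 2 := by
  obtain ⟨j, hj⟩ : ∃ j, ∀ b ∈ μ, b ≤ j := by
    refine ⟨μ.sum, fun b hb => Multiset.le_sum_of_mem hb⟩
  have hnil : IsNilpotent (a - 1) := ⟨j, by
    rw [← rk_eq_zero_iff, hrk, rsum_eq_zero_iff]
    exact hj⟩
  have hWn : ∀ w ∈ W, (a - 1) w ∈ W := fun w hw => by
    rw [LinearMap.sub_apply, Module.End.one_apply]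
    exact W.sub_mem (hWa ⟨w, hw, rfl⟩) hw
  have hpolar : ∀ x y, QuadraticMap.polar ⇑Q (a x) (a y) = QuadraticMap.polar ⇑Q x y := by
    intro x y
    unfold QuadraticMap.polar
    rw [← map_add, ha, ha, ha]
  obtain ⟨ν, hle, hsum, hev, hrkν⟩ := exists_sub_type_rk h2 (B := QuadraticMap.polarBilin Q)
    (fun x y => QuadraticMap.polar_comm _ x y) (a := a) hpolar hnil hpos hrk hWn
    (fun w hw hw0 => by
      by_contra hne
      obtain ⟨-, x, hx, hx0⟩ := hW w hw hne
      exact hx0 (hw0 x hx))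
  refine ⟨ν, hle, hsum, hev, ?_⟩
  by_contra hall
  push Not at hall
  obtain ⟨h1, h0, hs2⟩ := rsum_of_twos hall
  apply hnp
  -- the square of `a - 1` vanishes on `W`
  have hsq : ∀ w ∈ W, (a - 1) ((a - 1) w) = 0 := by
    intro w hw
    have h3 : ((a - 1).restrict hWn) ^ 2 = 0 := by
      rw [← rk_eq_zero_iff, hrkν, h0]
    have h4 := restrict_pow_apply (N := a - 1) hWn 2 ⟨w, hw⟩
    rw [h3] at h4
    rw [pow_two] at h4
    exact h4.symm
  refine ⟨W.map (a - 1), ?_, ?_, ?_⟩
  · rintro _ ⟨w, hw, rfl⟩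
    exact hWn w hw
  · rintro _ ⟨w, hw, rfl⟩
    -- `a` fixes `(a - 1) w`
    have hfix : a ((a - 1) w) = (a - 1) w := by
      have := hsq w hw
      rw [LinearMap.sub_apply (a) 1 ((a - 1) w), Module.End.one_apply, sub_eq_zero] at this
      exact this
    have haw : a w = w + (a - 1) w := by
      rw [LinearMap.sub_apply, Module.End.one_apply]
      abel
    have h5 := hpolar w ((a - 1) w)
    rw [hfix, haw, QuadraticMap.polar_add_left] at h5
    have h6 : QuadraticMap.polar ⇑Q ((a - 1) w) ((a - 1) w) = 0 := by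
      linear_combination h5
    rw [QuadraticMap.polar_self, nsmul_eq_mul, Nat.cast_ofNat] at h6
    exact (mul_eq_zero.1 h6).resolve_left h2
  · have h7 : W.map (a - 1) = (LinearMap.range ((a - 1).restrict hWn)).map W.subtype := by
      ext v
      constructor
      · rintro ⟨w, hw, rfl⟩
        exact ⟨⟨(a - 1) w, hWn w hw⟩, ⟨⟨w, hw⟩, rfl⟩, rfl⟩
      · rintro ⟨_, ⟨w, rfl⟩, rfl⟩
        exact ⟨w.1, w.2, rfl⟩
    have h8 : finrank F ↥(W.map (a - 1)) = rk ((a - 1).restrict hWn) 1 := by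
      rw [h7]
      unfold rk
      rw [pow_one]
      exact (LinearEquiv.finrank_eq (Submodule.equivMapOfInjective W.subtype
        W.injective_subtype _)).symm
    rw [h8, hrkν, h1, ← hsum, hs2]

end quad

end Cfsg.Agent.Lib.Helper5.OUnip
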