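import Cfsg.Agent.Lib.Helper5.OUnip.Plus

set_option autoImplicit false

/-!
# `Ω⁺_{2d}(q)`, `q` odd, on nondegenerate subspaces: the elements of order `p`
-/

open Cfsg

namespace Cfsg.Agent.Lib.Helper5.OUnip

open Module Matrix Cfsg.Agent.Lib.Helper5.SpUnip

universe u

variable {F : Type u} [Field F]

/-- the trivial type -/
theorem sub_of_ones {μ : Multiset ℕ} (h1 : ∀ a ∈ μ, a = 1) {m : ℕ} (hm : m ≤ μ.sum) :
    ∃ ν : Multiset ℕ, ν ≤ μ ∧ ν.sum = m ∧ ∀ e : ℕ, Even e → Even (ν.count e) := by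
  have hμ : μ = Multiset.replicate (Multiset.card μ) 1 := Multiset.eq_replicate_card.2 h1
  have hsum : μ.sum = Multiset.card μ := by
    conv_lhs => rw [hμ]
    simp
  refine ⟨Multiset.replicate m 1, ?_, by simp, fun e he => ?_⟩
  · rw [hμ]
    exact (Multiset.replicate_le_replicate 1).2 (by omega)
  · rw [Multiset.count_replicate, if_neg]
    · exact Even.zero
    · rintro rfl
      exact absurd he (by decide)

/-- the Jordan type of the restriction of a unipotent isometry of a quadratic form to an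
invariant nondegenerate subspace -/
theorem exists_sub_type_quad (h2 : (2 : F) ≠ 0) {ι : Type} [Fintype ι] [DecidableEq ι]
    (Q : QuadraticForm F (ι → F)) {a : Module.End F (ι → F)} (ha : ∀ v, Q (a v) = Q v)
    {μ : Multiset ℕ} (hpos : ∀ b ∈ μ, 0 < b) (hrk : ∀ k, rk (a - 1) k = rsum μ k)
    {W : Submodule F (ι → F)} (hWa : W.map a ≤ W)
    (hW : Cfsg.Geo.IsNondegenerateOn (QuadraticMap.polar ⇑Q) W) :
    ∃ ν : Multiset ℕ, ν ≤ μ ∧ ν.sum = finrank F W ∧ ∀ e : ℕ, Even e → Even (ν.count e) := by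
  obtain ⟨j, hj⟩ : ∃ j, ∀ b ∈ μ, b ≤ j := by
    refine ⟨μ.sum, fun b hb => Multiset.le_sum_of_mem hb⟩
  have hnil : IsNilpotent (a - 1) := ⟨j, by
    rw [← rk_eq_zero_iff, hrk, rsum_eq_zero_iff]
    exact hj⟩
  refine exists_sub_type h2 (B := QuadraticMap.polarBilin Q)
    (fun x y => QuadraticMap.polar_comm _ x y) (a := a) (fun x y => ?_) hnil hpos hrk
    (fun w hw => hWa ⟨w, hw, rfl⟩) (fun w hw hw0 => ?_)
  · show QuadraticMap.polar ⇑Q (a x) (a y) = QuadraticMap.polar ⇑Q x y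
    unfold QuadraticMap.polar
    rw [← map_add, ha, ha, ha]
  · by_contra hne
    obtain ⟨-, x, hx, hx0⟩ := hW w hw hne
    exact hx0 (hw0 x hx)

theorem plus_only_if {p : ℕ} [Fact p.Prime] [CharP F p] (hp2 : p ≠ 2) (d m : ℕ) (hd : 1 ≤ d)
    (hm : m ≤ 2 * d)
    (H : ∀ x : GL (Fin d ⊕ Fin d) F, x ∈ Cfsg.Geo.omegaGL (Cfsg.quadFormPlus d F) →
      (∃ z : F, ((x ^ p : GL (Fin d ⊕ Fin d) F) : Matrix (Fin d ⊕ Fin d) (Fin d ⊕ Fin d) F) =
        z • (1 : Matrix (Fin d ⊕ Fin d) (Fin d ⊕ Fin d) F)) →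
      (∀ z : F, (x : Matrix (Fin d ⊕ Fin d) (Fin d ⊕ Fin d) F) ≠
        z • (1 : Matrix (Fin d ⊕ Fin d) (Fin d ⊕ Fin d) F)) →
      ∃ W : Submodule F (Fin d ⊕ Fin d → F), (Module.finrank F ↥W = m ∧
        Cfsg.Geo.IsNondegenerateOn (QuadraticMap.polar (Cfsg.quadFormPlus d F)) W ∧
        Cfsg.Geo.IsPlusTypeOn (Cfsg.quadFormPlus d F) W) ∧
        W.map (Matrix.toLin' (x : Matrix (Fin d ⊕ Fin d) (Fin d ⊕ Fin d) F)) ≤ W) :
    ∀ μ : Multiset ℕ, (∀ e ∈ μ, 0 < e ∧ e ≤ p) → (∀ e : ℕ, Even e → Even (μ.count e)) →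
      μ.sum = 2 * d →
      ∃ ν : Multiset ℕ, ν ≤ μ ∧ ν.sum = m ∧ ∀ e : ℕ, Even e → Even (ν.count e) := by
  intro μ hμ hev hsum
  have hF : ringChar F ≠ 2 := by rw [ringChar.eq F p]; exact hp2
  have h2 : (2 : F) ≠ 0 := Ring.two_ne_zero hF
  by_cases hone : ∀ a ∈ μ, a = 1
  · exact sub_of_ones hone (by omega)
  push Not at hone
  obtain ⟨a₀, ha₀, ha₀1⟩ := hone
  have hpos : ∀ b ∈ μ, 0 < b := fun b hb => (hμ b hb).1
  obtain ⟨g, hgΩ, hgp, hgQ, hgrk⟩ := exists_unipotent_plus (F := F) hp2 d μ hμ hev hsum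
  have hr1 : rsum μ 1 ≠ 0 := by
    rw [Ne, rsum_eq_zero_iff]
    intro h
    have := h a₀ ha₀
    have := (hμ a₀ ha₀).1
    omega
  have hNp : (Matrix.toLin' (g : Matrix (Fin d ⊕ Fin d) (Fin d ⊕ Fin d) F) - 1) ^ p = 0 := by
    rw [← rk_eq_zero_iff, hgrk, rsum_eq_zero_iff]
    exact fun a ha => (hμ a ha).2
  have hne : Nonempty (Fin d ⊕ Fin d) := ⟨Sum.inl ⟨0, by omega⟩⟩
  obtain ⟨W, ⟨hWdim, hWnd, -⟩, hWinv⟩ := H g (by rw [← coe_plusForm]; exact hgΩ)
    ⟨1, by rw [hgp, one_smul]; rfl⟩ (by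
      intro z hz
      have hl : Matrix.toLin' (g : Matrix (Fin d ⊕ Fin d) (Fin d ⊕ Fin d) F) - 1 =
          (z - 1) • (1 : Module.End F (Fin d ⊕ Fin d → F)) := by
        rw [hz, Cfsg.Agent.Lib.Helper2.SpImp.toLin'_smul_one_gen]
        apply LinearMap.ext
        intro v
        simp only [LinearMap.sub_apply, LinearMap.smul_apply, Module.End.one_apply]
        rw [_root_.sub_smul, one_smul]
      rw [hl, smul_pow, one_pow] at hNp
      have hz1 : (z - 1) ^ p = 0 := by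
        by_contra h0
        have := (smul_eq_zero.1 hNp).resolve_left h0
        have h3 := LinearMap.congr_fun this (fun _ => 1)
        have h4 := congrFun h3 hne.some
        simp at h4
      have hz' : z - 1 = 0 := pow_eq_zero_iff (Fact.out : p.Prime).ne_zero |>.1 hz1
      apply hr1
      rw [← hgrk, hl, hz', zero_smul]
      unfold rk
      simp)
  obtain ⟨ν, hle, hνsum, hνev⟩ := exists_sub_type_quad h2 (plusForm d F) hgQ hpos hgrk hWinv
    (by rw [coe_plusForm]; exact hWnd)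
  exact ⟨ν, hle, by rw [hνsum, hWdim], hνev⟩

end Cfsg.Agent.Lib.Helper5.OUnip
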