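import Cfsg.Agent.Lib.Helper5.OUnip.Odd
import Cfsg.Agent.Lib.Helper5.QuadStd

set_option autoImplicit false

/-!
# Unipotent elements of the orthogonal groups of minus type with a prescribed Jordan type
-/

namespace Cfsg.Agent.Lib.Helper5.OUnip

open Module Matrix Cfsg.Agent.Lib.Helper5.SpUnip

universe u

variable {F : Type u} [Field F] {V : Type u} [AddCommGroup V] [Module F V]
  [FiniteDimensional F V]

/-- coordinates in which the form is the standard form of minus type -/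
theorem exists_std_equiv_minus (h2 : (2 : F) ≠ 0) {B : LinearMap.BilinForm F V}
    (hs : ∀ x y, B x y = B y x) (hnd : ∀ x, (∀ y, B x y = 0) → x = 0) {U : Submodule F V}
    (hU : IsTS B U) {w₁ w₂ : V} (hw₁U : ∀ u ∈ U, B w₁ u = 0) (hw₂U : ∀ u ∈ U, B w₂ u = 0)
    (h12 : B w₂ w₁ = 0) (h11 : B w₁ w₁ = 2) {a b : F} (h22 : B w₂ w₂ = 2 * b - a ^ 2 / 2)
    (hc : 2 * b - a ^ 2 / 2 ≠ 0) {d : ℕ}
    (hdU : finrank F U = d) (hdV : finrank F V = 2 * d + 2) :
    ∃ φ : V ≃ₗ[F] ((Fin d ⊕ Fin d) ⊕ Fin 2 → F),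
      ∀ v, Cfsg.quadFormMinus d F a b (φ v) = 2⁻¹ * B v v := by
  set c₂ : F := 2 * b - a ^ 2 / 2 with hc₂
  have hBw : B w₂ ≠ 0 := by
    intro h
    have := LinearMap.congr_fun h w₂
    rw [h22] at this
    exact hc this
  have hdP : finrank F (LinearMap.ker (B w₂)) = 2 * d + 1 := by
    have := Module.Dual.finrank_ker_add_one_of_ne_zero hBw
    omega
  -- the projection to the orthogonal complement of `w₂`
  obtain ⟨π, hπ⟩ : ∃ π : V →ₗ[F] V, ∀ v, π v = v - (c₂⁻¹ * B w₂ v) • w₂ :=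
    ⟨LinearMap.id - LinearMap.smulRight ((c₂⁻¹ : F) • B w₂) w₂, fun v => by
      simp only [LinearMap.sub_apply, LinearMap.id_apply, LinearMap.smulRight_apply,
        LinearMap.smul_apply, smul_eq_mul]⟩
  have hproj : ∀ v, π v ∈ LinearMap.ker (B w₂) := by
    intro v
    rw [LinearMap.mem_ker, hπ, map_sub, map_smul, smul_eq_mul, h22]
    field_simp
    ring
  have hdecomp : ∀ v, v = (c₂⁻¹ * B w₂ v) • w₂ + π v := by
    intro v
    rw [hπ]
    abel
  -- the restricted form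
  have hsP : ∀ x y : ↥(LinearMap.ker (B w₂)), B.restrict (LinearMap.ker (B w₂)) x y =
      B.restrict (LinearMap.ker (B w₂)) y x := fun x y => hs x.1 y.1
  have hndP : ∀ x : ↥(LinearMap.ker (B w₂)),
      (∀ y, B.restrict (LinearMap.ker (B w₂)) x y = 0) → x = 0 := by
    intro x hx
    apply Subtype.ext
    apply hnd
    intro v
    rw [hdecomp v, map_add, map_smul, hs x.1 w₂, LinearMap.mem_ker.1 x.2, smul_zero, zero_add]
    exact hx ⟨_, hproj v⟩
  have hUP : U ≤ LinearMap.ker (B w₂) := fun u hu => LinearMap.mem_ker.2 (hw₂U u hu)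
  have hTSP : IsTS (B.restrict (LinearMap.ker (B w₂)))
      (U.comap (LinearMap.ker (B w₂)).subtype) :=
    fun x hx y hy => hU x.1 hx y.1 hy
  have hdUP : finrank F (U.comap (LinearMap.ker (B w₂)).subtype) = d := by
    rw [LinearEquiv.finrank_eq (Submodule.comapSubtypeEquivOfLe hUP), hdU]
  have hw₁P : w₁ ∈ LinearMap.ker (B w₂) := LinearMap.mem_ker.2 h12
  obtain ⟨φ', hφ'⟩ := exists_std_equiv_odd h2 hsP hndP hTSP
    (w := ⟨w₁, hw₁P⟩) (fun u hu => hw₁U u.1 hu) h11 hdUP hdP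
  -- the coordinates
  let L : V →ₗ[F] (Unit ⊕ (Fin d ⊕ Fin d) → F) :=
    φ'.toLinearMap.comp (LinearMap.codRestrict (LinearMap.ker (B w₂)) π hproj)
  have hL : ∀ v, L v = φ' ⟨π v, hproj v⟩ := fun v => rfl
  let β : V →ₗ[F] F := (c₂⁻¹ : F) • B w₂
  have hβ : ∀ v, β v = c₂⁻¹ * B w₂ v := fun v => rfl
  obtain ⟨ψ, hψl, hψ0, hψ1⟩ : ∃ ψ : V →ₗ[F] ((Fin d ⊕ Fin d) ⊕ Fin 2 → F),
      (∀ v k, ψ v (Sum.inl k) = L v (Sum.inr k)) ∧
      (∀ v, ψ v (Sum.inr 0) = L v (Sum.inl ()) - a / 2 * β v) ∧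
      (∀ v, ψ v (Sum.inr 1) = β v) :=
    ⟨LinearMap.pi (Sum.elim (fun k => (LinearMap.proj (Sum.inr k)).comp L)
      (fun j => ![(LinearMap.proj (Sum.inl ())).comp L - (a / 2) • β, β] j)),
      fun v k => rfl, fun v => rfl, fun v => rfl⟩
  have hψQ : ∀ v, Cfsg.quadFormMinus d F a b (ψ v) = 2⁻¹ * B v v := by
    intro v
    have h1 : Cfsg.quadFormMinus d F a b (ψ v) =
        (∑ i : Fin d, L v (Sum.inr (Sum.inl i)) * L v (Sum.inr (Sum.inr i))) +
        ((L v (Sum.inl ()) - a / 2 * β v) ^ 2 + a * (L v (Sum.inl ()) - a / 2 * β v) * β v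
          + b * β v ^ 2) := by
      unfold Cfsg.quadFormMinus
      rw [hψ0, hψ1]
      congr 1
      refine Finset.sum_congr rfl fun i _ => ?_
      rw [hψl, hψl]
    have h3 : Cfsg.quadFormOdd d F (L v) = 2⁻¹ * B (π v) (π v) := by
      rw [hL, hφ']
      rfl
    unfold Cfsg.quadFormOdd at h3
    have h4 : B v v = (β v) ^ 2 * c₂ + B (π v) (π v) := by
      have hk := LinearMap.mem_ker.1 (hproj v)
      conv_lhs => rw [hdecomp v]
      simp only [map_add, map_smul, LinearMap.add_apply, LinearMap.smul_apply, smul_eq_mul]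
      rw [h22, hk, hs _ w₂, hk, hβ]
      ring
    rw [h1, h4, mul_add, ← h3, hc₂]
    field_simp
    ring
  have hinj : Function.Injective ψ := by
    rw [← LinearMap.ker_eq_bot, LinearMap.ker_eq_bot']
    intro v hv
    have h1 : β v = 0 := by rw [← hψ1, hv]; rfl
    have h0 : L v (Sum.inl ()) = 0 := by
      have := hψ0 v
      rw [hv, h1, mul_zero, sub_zero] at this
      rw [← this]
      rfl
    have h3 : φ' ⟨π v, hproj v⟩ = 0 := by
      rw [← hL]
      funext k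
      rcases k with ⟨⟩ | k
      · exact h0
      · rw [← hψl, hv]
        rfl
    have h4 := congrArg Subtype.val (φ'.map_eq_zero_iff.1 h3)
    rw [hdecomp v, ← hβ, h1, zero_smul, zero_add]
    exact h4
  have hfin : finrank F V = finrank F ((Fin d ⊕ Fin d) ⊕ Fin 2 → F) := by
    rw [hdV, Module.finrank_fintype_fun_eq_card]
    simp
    omega
  exact ⟨LinearEquiv.ofInjectiveOfFinrankEq ψ hinj hfin, hψQ⟩

omit [FiniteDimensional F V] in
/-- nondegeneracy of the polar form in standard coordinates -/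
theorem nondeg_of_std (h2 : (2 : F) ≠ 0) {ι : Type} [Fintype ι] [DecidableEq ι]
    (Q : QuadraticForm F (ι → F)) {B : LinearMap.BilinForm F V}
    (hs : ∀ x y, B x y = B y x) (hnd : ∀ x, (∀ y, B x y = 0) → x = 0) (φ : V ≃ₗ[F] (ι → F))
    (hφ : ∀ v, Q (φ v) = 2⁻¹ * B v v) : (QuadraticMap.polarBilin Q).Nondegenerate := by
  have hpol : ∀ x y, QuadraticMap.polar Q (φ x) (φ y) = B x y := by
    intro x y
    unfold QuadraticMap.polar
    rw [← map_add, hφ, hφ, hφ]
    simp only [map_add, LinearMap.add_apply]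
    rw [hs y x]
    field_simp
    ring
  have hrefl : (QuadraticMap.polarBilin Q).IsRefl := fun x y h => by
    rw [QuadraticMap.polarBilin_apply_apply] at h ⊢
    rw [QuadraticMap.polar_comm]
    exact h
  refine (hrefl.nondegenerate_iff_separatingLeft).2 ?_
  intro x hx
  have : φ.symm x = 0 := by
    apply hnd
    intro y
    have := hx (φ y)
    rw [QuadraticMap.polarBilin_apply_apply] at this
    rw [← hpol, LinearEquiv.apply_symm_apply]
    exact this
  exact φ.symm.map_eq_zero_iff.1 this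

omit [FiniteDimensional F V] in
/-- the anisotropic binary form has nonzero discriminant -/
theorem disc_ne_zero_of_aniso (h2 : (2 : F) ≠ 0) {a b : F}
    (hab : ∀ x y : F, x ^ 2 + a * x * y + b * y ^ 2 = 0 → x = 0 ∧ y = 0) :
    2 * b - a ^ 2 / 2 ≠ 0 := by
  intro h
  have h1 : (-a / 2) ^ 2 + a * (-a / 2) * 1 + b * 1 ^ 2 = 0 := by
    have : (-a / 2) ^ 2 + a * (-a / 2) * 1 + b * 1 ^ 2 = 2⁻¹ * (2 * b - a ^ 2 / 2) := by
      field_simp
      ring
    rw [this, h, mul_zero]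
  exact one_ne_zero (hab _ _ h1).2

omit [FiniteDimensional F V] in
/-- unipotent elements of `Ω⁻` of every admissible type with an odd part -/
theorem exists_unipotent_minus {p : ℕ} [Fact p.Prime] [CharP F p] (hp2 : p ≠ 2) (d : ℕ)
    (a b : F) (hab : ∀ x y : F, x ^ 2 + a * x * y + b * y ^ 2 = 0 → x = 0 ∧ y = 0)
    (μ : Multiset ℕ) (hμ : ∀ e ∈ μ, 0 < e ∧ e ≤ p) (hev : ∀ e : ℕ, Even e → Even (μ.count e))
    (hsum : μ.sum = 2 * d + 2) (hodd : ∃ e ∈ μ, Odd e) :
    ∃ g : GL ((Fin d ⊕ Fin d) ⊕ Fin 2) F, g ∈ Cfsg.Geo.omegaGL ⇑(minusForm d F a b) ∧ g ^ p = 1 ∧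
      (∀ v, minusForm d F a b (Matrix.toLin'
        (g : Matrix ((Fin d ⊕ Fin d) ⊕ Fin 2) ((Fin d ⊕ Fin d) ⊕ Fin 2) F) v) =
          minusForm d F a b v) ∧
      ∀ k, rk (Matrix.toLin'
        (g : Matrix ((Fin d ⊕ Fin d) ⊕ Fin 2) ((Fin d ⊕ Fin d) ⊕ Fin 2) F) - 1) k =
          rsum μ k := by
  have hF : ringChar F ≠ 2 := by rw [ringChar.eq F p]; exact hp2
  have h2 : (2 : F) ≠ 0 := Ring.two_ne_zero hF
  have hc := disc_ne_zero_of_aniso h2 hab
  obtain ⟨e, heμ, ⟨h, rfl⟩⟩ := hodd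
  set μ' := μ.erase (2 * h + 1) with hμ'
  have hcons : (2 * h + 1) ::ₘ μ' = μ := Multiset.cons_erase heμ
  have hsum' : μ'.sum = 2 * d + 2 - (2 * h + 1) := by
    have := congrArg Multiset.sum hcons
    rw [Multiset.sum_cons, hsum] at this
    omega
  have hle : 2 * h + 1 ≤ 2 * d + 2 := by
    rw [← hsum]
    exact Multiset.le_sum_of_mem heμ
  have hev' : ∀ e : ℕ, Even e → Even (μ'.count e) := by
    intro e he
    have hne : e ≠ 2 * h + 1 := by
      rintro rfl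
      exact (Nat.not_even_iff_odd.2 ⟨h, rfl⟩) he
    rw [hμ', Multiset.count_erase_of_ne hne]
    exact hev e he
  have hpos' : ∀ x ∈ μ', 0 < x := fun x hx => (hμ x (Multiset.mem_of_mem_erase hx)).1
  obtain ⟨-, hO⟩ := exists_models (F := F) one_ne_zero _ μ' rfl hpos' hev'
  obtain ⟨V', i1, i2, i3, B', N', U', w', hOM', hrk', hTS', hdim', hwU', hww'⟩ :=
    hO (by rw [hsum']; exact ⟨d - h, by omega⟩) _ hc
  obtain ⟨V₁, j1, j2, j3, B₁, N₁, U₁, w₁, hOM₁, hrk₁, hTS₁, hdim₁, hwU₁, hww₁⟩ :=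
    oddModel_single (F := F) h h2
  have hdV' : finrank F V' = 2 * d + 2 - (2 * h + 1) := by
    rw [← rk_zero N', hrk', rsum_zero, hsum']
  have hdV₁ : finrank F V₁ = 2 * h + 1 := by
    rw [← rk_zero N₁, hrk₁, rsum_zero]
    simp
  have hOM := hOM₁.prod hOM'
  have hrk : ∀ k, rk (N₁.prodMap N') k = rsum μ k := by
    intro k
    rw [rk_prod, hrk₁, hrk', ← rsum_add, ← hcons]
    rfl
  have hNp : (N₁.prodMap N') ^ p = 0 := by
    rw [← rk_eq_zero_iff, hrk, rsum_eq_zero_iff]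
    exact fun a ha => (hμ a ha).2
  have hdU : finrank F (U₁.prod U') = d := by
    rw [finrank_prod_sub]
    omega
  have hdV : finrank F (V₁ × V') = 2 * d + 2 := by
    rw [Module.finrank_prod]
    omega
  obtain ⟨φ, hφ⟩ := exists_std_equiv_minus h2 hOM.symm hOM.nondeg (hTS₁.prod hTS')
    (w₁ := (w₁, 0)) (w₂ := (0, w')) (a := a) (b := b)
    (fun u hu => by rw [prodB_apply]; simp [hwU₁ u.1 hu.1])
    (fun u hu => by rw [prodB_apply]; simp [hwU' u.2 hu.2])
    (by rw [prodB_apply]; simp) (by rw [prodB_apply]; simp [hww₁])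
    (by rw [prodB_apply]; simp [hww']) hc hdU hdV
  have hφ' : ∀ v, minusForm d F a b (φ v) = 2⁻¹ * prodB B₁ B' v v := fun v => by
    rw [minusForm_apply]
    exact hφ v
  have hQ := nondeg_of_std h2 (minusForm d F a b) hOM.symm hOM.nondeg φ hφ'
  obtain ⟨g, h1, h3, h4, h5⟩ := exists_unipotent_of_std hp2 (minusForm d F a b) hQ hOM hNp φ hφ'
  exact ⟨g, h1, h3, h4, fun k => by rw [h5, hrk]⟩

end Cfsg.Agent.Lib.Helper5.OUnip
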