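import Cfsg.Agent.Lib.Helper5.OUnip.Model

set_option autoImplicit false

/-!
# The basic models: the doubled Jordan block and the single Jordan block of odd size
-/

namespace Cfsg.Agent.Lib.Helper5.OUnip

open Module Cfsg.Agent.Lib.Helper5.SpUnip

universe u

variable {F : Type u} [Field F]

section generic

variable {V : Type u} [AddCommGroup V] [Module F V] [FiniteDimensional F V]

theorem rsum_nil (k : ℕ) : rsum (0 : Multiset ℕ) k = 0 := by
  simp [rsum]

theorem rsum_singleton (b k : ℕ) : rsum ({b} : Multiset ℕ) k = b - k := by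
  simp [rsum]

/-- a nilpotent endomorphism of corank one has a single Jordan block -/
theorem rk_of_corank_one {N : Module.End F V} (hnil : IsNilpotent N) {n : ℕ}
    (hdim : finrank F V = n + 1) (h1 : rk N 1 = n) (k : ℕ) : rk N k = n + 1 - k := by
  obtain ⟨μ, hpos, hrk⟩ := exists_type N hnil
  have h0 : rsum μ 0 = n + 1 := by rw [← hrk, rk_zero, hdim]
  have h1' : rsum μ 1 = n := by rw [← hrk, h1]
  have h2 := rsum_succ μ 0
  rw [zero_add] at h2
  have hg : gtc μ 0 = Multiset.card μ := by
    unfold gtc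
    rw [Multiset.filter_eq_self.2 hpos]
  have hcard : Multiset.card μ = 1 := by omega
  obtain ⟨b, rfl⟩ := Multiset.card_eq_one.1 hcard
  rw [rsum_singleton] at h0
  rw [hrk, rsum_singleton]
  omega

end generic

section pair

/-- the symmetric form on `W × W*` -/
def dblS (F : Type u) [Field F] (W : Type*) [AddCommGroup W] [Module F W] :
    LinearMap.BilinForm F (W × Dual F W) :=
  LinearMap.mk₂ F (fun x y => y.2 x.1 + x.2 y.1)
    (fun x x' y => by simp only [Prod.fst_add, Prod.snd_add, map_add, LinearMap.add_apply]; ring)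
    (fun c x y => by
      simp only [Prod.smul_fst, Prod.smul_snd, map_smul, LinearMap.smul_apply, smul_eq_mul]; ring)
    (fun x y y' => by simp only [Prod.fst_add, Prod.snd_add, map_add, LinearMap.add_apply]; ring)
    (fun c x y => by
      simp only [Prod.smul_fst, Prod.smul_snd, map_smul, LinearMap.smul_apply, smul_eq_mul]; ring)

@[simp] theorem dblS_apply {W : Type*} [AddCommGroup W] [Module F W] (x y : W × Dual F W) :
    dblS F W x y = y.2 x.1 + x.2 y.1 := rfl

theorem dbl_isOM {W : Type u} [AddCommGroup W] [Module F W] [FiniteDimensional F W]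
    {T : W →ₗ[F] W} (hT : IsNilpotent T) : IsOM (dblS F W) (dblN T) := by
  refine ⟨fun x y => ?_, fun x hx => ?_, fun x y => ?_, ?_⟩
  · simp only [dblS_apply]
    ring
  · have e2 : x.2 = 0 := by
      ext w
      have := hx (w, 0)
      simpa using this
    have e1 : x.1 = 0 := by
      rw [← Module.forall_dual_apply_eq_zero_iff F]
      intro f
      have := hx (0, f)
      simpa using this
    exact Prod.ext e1 e2
  · simp only [dblN, dblS_apply, LinearMap.prodMap_apply, LinearMap.neg_apply,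
      LinearMap.dualMap_apply]
    ring
  · obtain ⟨k, hk⟩ := hT
    refine ⟨k, ?_⟩
    unfold dblN
    rw [prodMap_pow, neg_dualMap_pow, hk]
    ext x <;> simp

/-- the doubled Jordan block -/
theorem evenModel_pair (a : ℕ) : EvenModel F (a ::ₘ a ::ₘ 0) := by
  obtain ⟨T, hT, hrk⟩ := exists_block (F := F) a
  refine ⟨(Fin a → F) × Dual F (Fin a → F), inferInstance, inferInstance, inferInstance,
    dblS F _, dblN T, (⊤ : Submodule F (Fin a → F)).prod ⊥, dbl_isOM hT, fun k => ?_, ?_, ?_⟩
  · rw [dbl_rk, hrk, rsum_cons, rsum_cons, rsum_nil]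
    omega
  · intro x hx y hy
    have hx2 : x.2 = 0 := hx.2
    have hy2 : y.2 = 0 := hy.2
    rw [dblS_apply, hx2, hy2]
    simp
  · rw [finrank_prod_sub, finrank_top, finrank_bot, Module.finrank_prod,
      Subspace.dual_finrank_eq]
    omega

end pair

section single

/-- prepending a zero coordinate -/
def shiftInj (n : ℕ) : (Fin n → F) →ₗ[F] (Fin (n + 1) → F) where
  toFun w := Fin.cons (α := fun _ => F) 0 w
  map_add' w w' := by
    funext i
    refine Fin.cases ?_ (fun j => ?_) i <;> simp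
  map_smul' c w := by
    funext i
    refine Fin.cases ?_ (fun j => ?_) i <;> simp

/-- the shift `e_j ↦ e_{j+1}` -/
def shiftN (n : ℕ) : Module.End F (Fin (n + 1) → F) :=
  (shiftInj n).comp (LinearMap.funLeft F F Fin.castSucc)

theorem shiftN_zero (n : ℕ) (u : Fin (n + 1) → F) : shiftN n u 0 = 0 := rfl

theorem shiftN_succ (n : ℕ) (u : Fin (n + 1) → F) (i : Fin n) :
    shiftN n u i.succ = u i.castSucc := by
  show Fin.cons (α := fun _ => F) 0 (LinearMap.funLeft F F Fin.castSucc u) i.succ = _
  rw [Fin.cons_succ]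
  rfl

theorem shiftN_pow_low (n : ℕ) (k : ℕ) :
    ∀ (u : Fin (n + 1) → F) (i : Fin (n + 1)), (i : ℕ) < k → ((shiftN n) ^ k) u i = 0 := by
  induction k with
  | zero => intro u i hi; omega
  | succ k ih =>
    intro u i hi
    rw [pow_succ', Module.End.mul_apply]
    refine Fin.cases ?_ (fun j hj => ?_) i hi
    · intro _
      exact shiftN_zero n _
    · rw [shiftN_succ]
      apply ih
      rw [Fin.val_succ] at hj
      rw [Fin.val_castSucc]
      omega

theorem shiftN_nil (n : ℕ) : IsNilpotent (shiftN (F := F) n) := by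
  refine ⟨n + 1, ?_⟩
  apply LinearMap.ext
  intro u
  funext i
  exact shiftN_pow_low n (n + 1) u i i.2

theorem shiftN_rk_one (n : ℕ) : rk (shiftN (F := F) n) 1 = n := by
  unfold rk shiftN
  rw [pow_one, LinearMap.range_comp_of_range_eq_top]
  · have hinj : Function.Injective (shiftInj (F := F) n) := by
      intro w w' h
      exact Fin.cons_right_injective (α := fun _ => F) 0 h
    rw [LinearMap.finrank_range_of_inj hinj]
    simp
  · exact LinearMap.range_eq_top.2
      (LinearMap.funLeft_surjective_of_injective F F _ (Fin.castSucc_injective n))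

theorem shiftN_rk (n k : ℕ) : rk (shiftN (F := F) n) k = n + 1 - k :=
  rk_of_corank_one (shiftN_nil n) (by simp) (shiftN_rk_one n) k

/-- the form with antidiagonal Gram matrix `c, -c, c, …` -/
def antiB (n : ℕ) (c : F) : LinearMap.BilinForm F (Fin (n + 1) → F) :=
  Matrix.toBilin' (Matrix.of fun i j : Fin (n + 1) =>
    if j = Fin.rev i then c * (-1) ^ (i : ℕ) else 0)

theorem antiB_apply (n : ℕ) (c : F) (u v : Fin (n + 1) → F) :
    antiB n c u v = ∑ i : Fin (n + 1), c * (-1) ^ (i : ℕ) * u i * v (Fin.rev i) := by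
  unfold antiB
  rw [Matrix.toBilin'_apply']
  simp only [dotProduct, Matrix.mulVec, Matrix.of_apply, ite_mul, zero_mul,
    Finset.sum_ite_eq', Finset.mem_univ, if_true]
  refine Finset.sum_congr rfl fun i _ => ?_
  ring

theorem neg_one_pow_rev {n : ℕ} (hn : Even n) (i : Fin (n + 1)) :
    (-1 : F) ^ ((Fin.rev i : Fin (n + 1)) : ℕ) = (-1) ^ (i : ℕ) := by
  have h : ((Fin.rev i : Fin (n + 1)) : ℕ) + (i : ℕ) = n := by
    rw [Fin.val_rev]
    omega
  have h1 : ((-1 : F) ^ (i : ℕ)) * (-1) ^ (i : ℕ) = 1 := by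
    rw [← mul_pow]
    simp
  calc (-1 : F) ^ ((Fin.rev i : Fin (n + 1)) : ℕ)
      = (-1) ^ ((Fin.rev i : Fin (n + 1)) : ℕ) * ((-1) ^ (i : ℕ) * (-1) ^ (i : ℕ)) := by
        rw [h1, mul_one]
    _ = (-1) ^ (((Fin.rev i : Fin (n + 1)) : ℕ) + (i : ℕ)) * (-1) ^ (i : ℕ) := by
        rw [pow_add]
        ring
    _ = (-1) ^ (i : ℕ) := by rw [h, hn.neg_one_pow, one_mul]

theorem antiB_symm {n : ℕ} (hn : Even n) (c : F) (u v : Fin (n + 1) → F) :
    antiB n c u v = antiB n c v u := by
  rw [antiB_apply, antiB_apply,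
    ← Equiv.sum_comp Fin.revPerm (fun i : Fin (n + 1) => c * (-1) ^ (i : ℕ) * v i * u (Fin.rev i))]
  refine Finset.sum_congr rfl fun i _ => ?_
  simp only [Fin.revPerm_apply, Fin.rev_rev]
  rw [neg_one_pow_rev hn]
  ring

theorem antiB_nondeg (n : ℕ) {c : F} (hc : c ≠ 0) (u : Fin (n + 1) → F)
    (h : ∀ v, antiB n c u v = 0) : u = 0 := by
  funext j
  have := h (Pi.single (Fin.rev j) 1)
  rw [antiB_apply] at this
  simp only [Pi.single_apply, Fin.rev_inj, mul_ite, mul_one, mul_zero, Finset.sum_ite_eq',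
    Finset.mem_univ, if_true] at this
  rcases mul_eq_zero.1 this with h1 | h1
  · rcases mul_eq_zero.1 h1 with h2 | h2
    · exact absurd h2 hc
    · exact absurd h2 (pow_ne_zero _ (by simp))
  · exact h1

theorem antiB_skew (n : ℕ) (c : F) : IsSkew (antiB n c) (shiftN n) := by
  intro u v
  rw [antiB_apply, antiB_apply, Fin.sum_univ_succ, Fin.sum_univ_castSucc]
  simp only [shiftN_zero, shiftN_succ, Fin.rev_succ, Fin.rev_castSucc, Fin.rev_last,
    Fin.val_succ, Fin.val_castSucc, mul_zero, zero_mul, zero_add, add_zero]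
  rw [← Finset.sum_neg_distrib]
  refine Finset.sum_congr rfl fun i _ => ?_
  rw [pow_succ]
  ring

theorem antiB_isOM {n : ℕ} (hn : Even n) {c : F} (hc : c ≠ 0) :
    IsOM (antiB n c) (shiftN n) :=
  ⟨antiB_symm hn c, antiB_nondeg n hc, antiB_skew n c, shiftN_nil n⟩

/-- the coordinate subspace `u_0 = … = u_h = 0` -/
def tsSub (h : ℕ) : Submodule F (Fin (2 * h + 1) → F) :=
  LinearMap.ker (LinearMap.funLeft F F (Fin.castLE (show h + 1 ≤ 2 * h + 1 by omega)))

theorem mem_tsSub {h : ℕ} {u : Fin (2 * h + 1) → F} (hu : u ∈ tsSub h) (i : Fin (2 * h + 1))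
    (hi : (i : ℕ) ≤ h) : u i = 0 := by
  have := congrFun (LinearMap.mem_ker.1 hu) ⟨i, by omega⟩
  rw [LinearMap.funLeft_apply] at this
  exact this

theorem finrank_tsSub (h : ℕ) : finrank F (tsSub (F := F) h) = h := by
  have h1 := LinearMap.finrank_range_add_finrank_ker
    (LinearMap.funLeft F F (Fin.castLE (show h + 1 ≤ 2 * h + 1 by omega)))
  have h2 : LinearMap.range (LinearMap.funLeft F F
      (Fin.castLE (show h + 1 ≤ 2 * h + 1 by omega))) = ⊤ :=
    LinearMap.range_eq_top.2
      (LinearMap.funLeft_surjective_of_injective F F _ (Fin.castLE_injective _))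
  rw [h2, finrank_top] at h1
  simp only [Module.finrank_fintype_fun_eq_card, Fintype.card_fin] at h1
  unfold tsSub
  omega

/-- the single Jordan block of odd size -/
theorem oddModel_single (h : ℕ) {c : F} (hc : c ≠ 0) : OddModel F ((2 * h + 1) ::ₘ 0) c := by
  have hc' : c * (-1) ^ h ≠ 0 := mul_ne_zero hc (pow_ne_zero _ (by simp))
  have hrevh : (Fin.rev (⟨h, by omega⟩ : Fin (2 * h + 1)) : Fin (2 * h + 1)) =
      ⟨h, by omega⟩ := by
    apply Fin.ext
    rw [Fin.val_rev]
    simp only
    omega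
  refine ⟨Fin (2 * h + 1) → F, inferInstance, inferInstance, inferInstance,
    antiB (2 * h) (c * (-1) ^ h), shiftN (2 * h), tsSub h, Pi.single ⟨h, by omega⟩ 1,
    antiB_isOM (even_two_mul h) hc', fun k => ?_, ?_, ?_, ?_, ?_⟩
  · rw [shiftN_rk, rsum_cons, rsum_nil]
    omega
  · intro u hu v hv
    rw [antiB_apply]
    refine Finset.sum_eq_zero fun i _ => ?_
    by_cases hi : (i : ℕ) ≤ h
    · rw [mem_tsSub hu i hi]
      ring
    · rw [mem_tsSub hv (Fin.rev i) (by rw [Fin.val_rev]; omega)]
      ring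
  · rw [finrank_tsSub]
    simp only [Module.finrank_fintype_fun_eq_card, Fintype.card_fin]
  · intro u hu
    rw [antiB_apply]
    refine Finset.sum_eq_zero fun i _ => ?_
    by_cases hi : i = ⟨h, by omega⟩
    · rw [hi, hrevh, mem_tsSub hu ⟨h, by omega⟩ le_rfl]
      ring
    · rw [Pi.single_apply, if_neg hi]
      ring
  · rw [antiB_apply, Finset.sum_eq_single (⟨h, by omega⟩ : Fin (2 * h + 1))]
    · rw [hrevh, Pi.single_eq_same]
      simp only [mul_one]
      rw [mul_assoc, ← mul_pow]
      simp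
    · intro i _ hi
      rw [Pi.single_apply, if_neg hi]
      ring
    · intro hh
      exact absurd (Finset.mem_univ _) hh

end single

end Cfsg.Agent.Lib.Helper5.OUnip
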