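import Cfsg.Agent.Lib.Helper5.OUnip.Block

set_option autoImplicit false

/-!
# Existence of the models of every admissible type
-/

namespace Cfsg.Agent.Lib.Helper5.OUnip

open Module Cfsg.Agent.Lib.Helper5.SpUnip

universe u

variable {F : Type u} [Field F]

/-- models of every admissible type, of both parities -/
theorem exists_models (h1 : (1 : F) ≠ 0) : ∀ (n : ℕ) (μ : Multiset ℕ), Multiset.card μ = n →
    (∀ a ∈ μ, 0 < a) → (∀ e : ℕ, Even e → Even (μ.count e)) →
    (Even μ.sum → EvenModel F μ) ∧ (Odd μ.sum → ∀ c : F, c ≠ 0 → OddModel F μ c) := by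
  intro n
  induction n using Nat.strong_induction_on with
  | _ n ih =>
    intro μ hcard hpos hev
    by_cases hμ : μ = 0
    · subst hμ
      refine ⟨fun _ => evenModel_zero, fun h => ?_⟩
      simp at h
    obtain ⟨a, ha⟩ := Multiset.exists_mem_of_ne_zero hμ
    have ha0 := hpos a ha
    have hsum := Multiset.sum_erase ha
    have hcons := Multiset.cons_erase ha
    have hcard1 : Multiset.card (μ.erase a) + 1 = n := by
      rw [← hcard, ← hcons, Multiset.card_cons, hcons]
    rcases Nat.even_or_odd a with hae | hao
    · -- an even part occurs at least twice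
      have hc2 := hev a hae
      have hc1 : 0 < μ.count a := Multiset.count_pos.2 ha
      have ha' : a ∈ μ.erase a := by
        rw [← Multiset.count_pos, Multiset.count_erase_self]
        obtain ⟨t, ht⟩ := hc2
        omega
      have hsum' := Multiset.sum_erase ha'
      have hcons' := Multiset.cons_erase ha'
      have hcard2 : Multiset.card ((μ.erase a).erase a) + 2 = n := by
        rw [← hcard1, ← hcons', Multiset.card_cons, hcons']
      have hpos' : ∀ b ∈ (μ.erase a).erase a, 0 < b := fun b hb =>
        hpos b (Multiset.mem_of_mem_erase (Multiset.mem_of_mem_erase hb))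
      have hev' : ∀ e : ℕ, Even e → Even (((μ.erase a).erase a).count e) := by
        intro e he
        by_cases hea : e = a
        · subst hea
          rw [Multiset.count_erase_self, Multiset.count_erase_self]
          obtain ⟨t, ht⟩ := hc2
          exact ⟨t - 1, by omega⟩
        · rw [Multiset.count_erase_of_ne hea, Multiset.count_erase_of_ne hea]
          exact hev e he
      obtain ⟨ihE, ihO⟩ := ih _ (by omega) ((μ.erase a).erase a) rfl hpos' hev'
      have hμeq : μ = (a ::ₘ a ::ₘ 0) + (μ.erase a).erase a := by
        rw [Multiset.cons_add, Multiset.cons_add, zero_add, hcons', hcons]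
      constructor
      · intro hs
        rw [hμeq]
        refine (evenModel_pair a).add (ihE ?_)
        obtain ⟨t, ht⟩ := hs
        obtain ⟨s, hs'⟩ := hae
        exact ⟨t - a, by omega⟩
      · intro hs c hc
        rw [hμeq]
        refine (evenModel_pair a).add_odd (ihO ?_ c hc)
        obtain ⟨t, ht⟩ := hs
        obtain ⟨s, hs'⟩ := hae
        exact ⟨t - a, by omega⟩
    · -- an odd part
      obtain ⟨h, hh⟩ := hao
      have hpos' : ∀ b ∈ μ.erase a, 0 < b := fun b hb => hpos b (Multiset.mem_of_mem_erase hb)
      have hev' : ∀ e : ℕ, Even e → Even ((μ.erase a).count e) := by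
        intro e he
        have hea : e ≠ a := by
          rintro rfl
          obtain ⟨t, ht⟩ := he
          omega
        rw [Multiset.count_erase_of_ne hea]
        exact hev e he
      obtain ⟨ihE, ihO⟩ := ih _ (by omega) (μ.erase a) rfl hpos' hev'
      have hμeq : μ = ((2 * h + 1) ::ₘ 0) + μ.erase a := by
        rw [Multiset.cons_add, zero_add, ← hh, hcons]
      constructor
      · intro hs
        rw [hμeq]
        refine OddModel.add_odd h1 (oddModel_single h h1) (ihO ?_ (-1) (neg_ne_zero.2 h1))
        obtain ⟨t, ht⟩ := hs
        exact ⟨t - h - 1, by omega⟩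
      · intro hs c hc
        rw [hμeq, add_comm]
        refine (ihE ?_).add_odd (oddModel_single h hc)
        obtain ⟨t, ht⟩ := hs
        exact ⟨t - h, by omega⟩

end Cfsg.Agent.Lib.Helper5.OUnip
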