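import Cfsg.Agent.Lib.Helper5.OUnip.Exist
import Cfsg.Agent.Lib.Helper5.QuadStd

set_option autoImplicit false

/-!
# Hyperbolic bases from totally singular subspaces of half the dimension
-/

namespace Cfsg.Agent.Lib.Helper5.OUnip

open Module Cfsg.Agent.Lib.Helper5.SpUnip

universe u

variable {F : Type u} [Field F] {V : Type u} [AddCommGroup V] [Module F V]
  [FiniteDimensional F V]

theorem exists_hyp_basis_of_ts (h2 : (2 : F) ≠ 0) {B : LinearMap.BilinForm F V}
    (hs : ∀ x y, B x y = B y x) (hnd : ∀ x, (∀ y, B x y = 0) → x = 0) {U : Submodule F V}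
    (hU : IsTS B U) {d : ℕ} (hdU : finrank F U = d) (hdV : finrank F V = 2 * d) :
    ∃ b : Basis (Fin d ⊕ Fin d) F V,
      (∀ i j, B (b (Sum.inl i)) (b (Sum.inr j)) = if i = j then 1 else 0) ∧
      (∀ i j, B (b (Sum.inl i)) (b (Sum.inl j)) = 0) ∧
      (∀ i j, B (b (Sum.inr i)) (b (Sum.inr j)) = 0) := by
  classical
  have hrefl : B.IsRefl := fun x y h => by rw [hs]; exact h
  have hB : B.Nondegenerate := (hrefl.nondegenerate_iff_separatingLeft).2 hnd
  let e := Module.finBasisOfFinrankEq F U hdU
  -- the dual vectors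
  have hex : ∀ j : Fin d, ∃ g : V →ₗ[F] F, g.comp U.subtype = e.coord j :=
    fun j => LinearMap.exists_extend (e.coord j)
  choose lam hlam using hex
  let f' : Fin d → V := fun j => (B.toDual hB).symm (lam j)
  have hf' : ∀ j v, B (f' j) v = lam j v := fun j v =>
    LinearMap.BilinForm.apply_toDual_symm_apply (hB := hB) (lam j) v
  have hA : ∀ j i, B (f' j) (e i : V) = if j = i then 1 else 0 := by
    intro j i
    rw [hf']
    have := LinearMap.congr_fun (hlam j) (e i)
    rw [LinearMap.comp_apply, Submodule.subtype_apply] at this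
    rw [this, Basis.coord_apply, Basis.repr_self, Finsupp.single_apply]
    simp only [eq_comm]
  -- the correction
  let s : Fin d → V := fun j => ∑ k, (B (f' j) (f' k) / 2) • (e k : V)
  have hsU : ∀ j, s j ∈ U := fun j =>
    Submodule.sum_mem _ (fun k _ => U.smul_mem _ (e k).2)
  have hfs : ∀ i j, B (f' i) (s j) = B (f' j) (f' i) / 2 := by
    intro i j
    simp only [s, map_sum, map_smul, smul_eq_mul, hA]
    simp
  let f : Fin d → V := fun j => f' j - s j
  have hG1 : ∀ i j, B (e i : V) (e j : V) = 0 := fun i j => hU _ (e i).2 _ (e j).2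
  have hG2 : ∀ i j, B (e i : V) (f j) = if i = j then 1 else 0 := by
    intro i j
    simp only [f, map_sub]
    rw [hU _ (e i).2 _ (hsU j), sub_zero, hs, hA]
    simp only [eq_comm]
  have hG3 : ∀ i j, B (f i) (f j) = 0 := by
    intro i j
    simp only [f, map_sub, LinearMap.sub_apply]
    rw [hfs, hs (s i) (f' j), hfs, hU _ (hsU i) _ (hsU j), hs (f' j) (f' i)]
    field_simp
    ring
  -- linear independence
  have hli : LinearIndependent F (Sum.elim (fun i => (e i : V)) f) := by
    rw [Fintype.linearIndependent_iff]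
    intro g hg
    rw [Fintype.sum_sum_type] at hg
    simp only [Sum.elim_inl, Sum.elim_inr] at hg
    have hr : ∀ i, g (Sum.inr i) = 0 := by
      intro i
      have := congrArg (B (e i : V)) hg
      simp only [map_add, map_sum, map_smul, smul_eq_mul, hG1, hG2, map_zero] at this
      simpa using this
    have hl : ∀ i, g (Sum.inl i) = 0 := by
      intro i
      have := congrArg (B (f i)) hg
      simp only [map_add, map_sum, map_smul, smul_eq_mul, hG3, map_zero] at this
      simp only [hs (f i) (e _ : V), hG2] at this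
      simpa using this
    intro k
    rcases k with i | i
    · exact hl i
    · exact hr i
  have hcard : Fintype.card (Fin d ⊕ Fin d) = finrank F V := by
    rw [Fintype.card_sum, Fintype.card_fin, hdV]
    omega
  have hspan := hli.span_eq_top_of_card_eq_finrank' hcard
  refine ⟨Basis.mk hli (le_of_eq hspan.symm), ?_, ?_, ?_⟩
  · intro i j
    rw [Basis.coe_mk]
    exact hG2 i j
  · intro i j
    rw [Basis.coe_mk]
    exact hG1 i j
  · intro i j
    rw [Basis.coe_mk]
    exact hG3 i j

/-- coordinates in which the form is the standard form of plus type -/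
theorem exists_std_equiv (h2 : (2 : F) ≠ 0) {B : LinearMap.BilinForm F V}
    (hs : ∀ x y, B x y = B y x) (hnd : ∀ x, (∀ y, B x y = 0) → x = 0) {U : Submodule F V}
    (hU : IsTS B U) {d : ℕ} (hdU : finrank F U = d) (hdV : finrank F V = 2 * d) :
    ∃ φ : V ≃ₗ[F] (Fin d ⊕ Fin d → F), ∀ v, Cfsg.quadFormPlus d F (φ v) = 2⁻¹ * B v v := by
  obtain ⟨b, hb1, hb2, hb3⟩ := exists_hyp_basis_of_ts h2 hs hnd hU hdU hdV
  refine ⟨b.equivFun, fun v => ?_⟩
  have hpol : ∀ x y, QuadraticMap.polar
      (LinearMap.BilinMap.toQuadraticMap ((2⁻¹ : F) • B)) x y = B x y := by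
    intro x y
    rw [LinearMap.BilinMap.polar_toQuadraticMap]
    simp only [LinearMap.smul_apply, smul_eq_mul]
    rw [hs y x]
    field_simp
    ring
  have := eq_quadFormPlus_of_basis (LinearMap.BilinMap.toQuadraticMap ((2⁻¹ : F) • B)) b
    (fun i => ?_) (fun i j => ?_) (fun i j => ?_) v
  · rw [← this, LinearMap.BilinMap.toQuadraticMap_apply]
    simp
  · rw [LinearMap.BilinMap.toQuadraticMap_apply, LinearMap.BilinMap.toQuadraticMap_apply]
    simp only [LinearMap.smul_apply, smul_eq_mul]
    rw [hb2, hb3]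
    simp
  · rw [hpol]
    exact hb1 i j
  · rw [hpol, hpol]
    exact ⟨hb2 i j, hb3 i j⟩

end Cfsg.Agent.Lib.Helper5.OUnip
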