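import Cfsg.Agent.Lib.Helper5.OUnip.Basic
import Cfsg.Agent.Lib.Helper5.SpUnip.CayRing

set_option autoImplicit false

/-!
# Unipotent isometries and skew nilpotent endomorphisms: the Cayley transform
-/

namespace Cfsg.Agent.Lib.Helper5.OUnip

open Module Cfsg.Agent.Lib.Helper5.SpUnip

universe u

variable {F : Type u} [Field F] {V : Type u} [AddCommGroup V] [Module F V]

/-- the Cayley transform of an isometry is skew -/
theorem skew_of_cayRel {B : LinearMap.BilinForm F V} {a n : Module.End F V}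
    (ha : ∀ x y, B (a x) (a y) = B x y) (hu : IsUnit (a + 1)) (hr : CayRel a n) : IsSkew B n := by
  have hsurj : Function.Surjective ⇑(a + 1) := ((Module.End.isUnit_iff _).1 hu).2
  have hn : ∀ u, n ((a + 1) u) = (a - 1) u := by
    intro u
    rw [← Module.End.mul_apply, hr]
  intro x y
  obtain ⟨x', rfl⟩ := hsurj x
  obtain ⟨y', rfl⟩ := hsurj y
  rw [hn, hn]
  simp only [LinearMap.add_apply, LinearMap.sub_apply, Module.End.one_apply, map_add, map_sub]
  rw [ha]
  ring

/-- the isometry with a given skew nilpotent Cayley transform -/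
theorem isom_of_cayRel {B : LinearMap.BilinForm F V} {a n : Module.End F V}
    (hn : IsSkew B n) (hnil : IsNilpotent n) (hr : a * (1 - n) = 1 + n) :
    ∀ x y, B (a x) (a y) = B x y := by
  have hsurj : Function.Surjective ⇑(1 - n) := ((Module.End.isUnit_iff _).1 hnil.isUnit_one_sub).2
  have h1 : ∀ u, a ((1 - n) u) = (1 + n) u := by
    intro u
    rw [← Module.End.mul_apply, hr]
  intro x y
  obtain ⟨x', rfl⟩ := hsurj x
  obtain ⟨y', rfl⟩ := hsurj y
  rw [h1, h1]
  simp only [LinearMap.add_apply, LinearMap.sub_apply, Module.End.one_apply, map_add, map_sub]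
  rw [hn x' y', hn x' (n y')]
  ring

/-- the ranks of the powers of `a - 1` and of its Cayley transform agree -/
theorem rk_of_cayRel {a n : Module.End F V} (hu : IsUnit (a + 1)) (hr : CayRel a n) (k : ℕ) :
    rk (a - 1) k = rk n k := by
  have hn : n = cay a := cayRel_unique hu hr (cay_rel hu)
  have hc : Commute n (a + 1) := by
    rw [hn]
    exact (cay_commute hu).add_right (Commute.one_right _)
  have hpow : (a - 1) ^ k = n ^ k * (a + 1) ^ k := by
    rw [← hr, hc.mul_pow]
  have hsurj : LinearMap.range ((a + 1) ^ k) = ⊤ :=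
    LinearMap.range_eq_top.2 ((Module.End.isUnit_iff _).1 (hu.pow k)).2
  unfold rk
  rw [hpow, Module.End.mul_eq_comp, LinearMap.range_comp_of_range_eq_top _ hsurj]

variable [FiniteDimensional F V]

/-- ranks add up over invariant complements -/
theorem rk_of_isCompl (N : Module.End F V) {M M' : Submodule F V} (hM : ∀ x ∈ M, N x ∈ M)
    (hM' : ∀ x ∈ M', N x ∈ M') (hc : IsCompl M M') (k : ℕ) :
    rk N k = rk (N.restrict hM) k + rk (N.restrict hM') k := by
  rw [← rk_prod]
  symm
  refine rk_iso (B := 0) (B' := 0) ⟨Submodule.prodEquivOfIsCompl M M' hc, fun _ _ => rfl,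
    fun x => ?_⟩ k
  rw [Submodule.coe_prodEquivOfIsCompl', Submodule.coe_prodEquivOfIsCompl']
  simp [map_add]

/-- the type of the restriction to an invariant direct summand -/
theorem type_of_isCompl {N : Module.End F V} (hnil : IsNilpotent N) {μ : Multiset ℕ}
    (hpos : ∀ a ∈ μ, 0 < a) (hrk : ∀ k, rk N k = rsum μ k) {M M' : Submodule F V}
    (hM : ∀ x ∈ M, N x ∈ M) (hM' : ∀ x ∈ M', N x ∈ M') (hc : IsCompl M M') :
    ∃ ν : Multiset ℕ, ν ≤ μ ∧ (∀ a ∈ ν, 0 < a) ∧ ∀ k, rk (N.restrict hM) k = rsum ν k := by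
  have hnilM : IsNilpotent (N.restrict hM) := by
    obtain ⟨j, hj⟩ := hnil
    refine ⟨j, ?_⟩
    apply LinearMap.ext
    intro x
    apply Subtype.ext
    rw [restrict_pow_apply, hj]
    rfl
  have hnilM' : IsNilpotent (N.restrict hM') := by
    obtain ⟨j, hj⟩ := hnil
    refine ⟨j, ?_⟩
    apply LinearMap.ext
    intro x
    apply Subtype.ext
    rw [restrict_pow_apply, hj]
    rfl
  obtain ⟨ν, hposν, hrkν⟩ := exists_type (N.restrict hM) hnilM
  obtain ⟨ν', hposν', hrkν'⟩ := exists_type (N.restrict hM') hnilM'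
  have hμ : μ = ν + ν' := by
    apply eq_of_rsum_eq hpos
    · intro a ha
      rcases Multiset.mem_add.1 ha with ha | ha
      · exact hposν a ha
      · exact hposν' a ha
    · intro k
      rw [← hrk, rk_of_isCompl N hM hM' hc, hrkν, hrkν', rsum_add]
  exact ⟨ν, by rw [hμ]; exact Multiset.le_add_right ν ν', hposν, hrkν⟩

/-- the parity property of the type of a unipotent isometry -/
theorem even_count_of_isom (h2 : (2 : F) ≠ 0) {B : LinearMap.BilinForm F V}
    (hs : ∀ x y, B x y = B y x) (hnd : ∀ x, (∀ y, B x y = 0) → x = 0) {a : Module.End F V}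
    (ha : ∀ x y, B (a x) (a y) = B x y) (hnil : IsNilpotent (a - 1)) {μ : Multiset ℕ}
    (hpos : ∀ b ∈ μ, 0 < b) (hrk : ∀ k, rk (a - 1) k = rsum μ k) (e : ℕ) (he : Even e) :
    Even (μ.count e) := by
  have hu : IsUnit (a + 1) := isUnit_add_one_of_nilpotent h2 hnil
  have hr := cay_rel hu
  have hsk := skew_of_cayRel ha hu hr
  refine even_count_of_rk hpos hrk (fun k hk => ?_) e he
  rw [rk_of_cayRel hu hr]
  exact even_rk_of_skew h2 hs hnd hsk hk

/-- the type of a unipotent isometry on an invariant nondegenerate subspace -/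
theorem exists_sub_type (h2 : (2 : F) ≠ 0) {B : LinearMap.BilinForm F V}
    (hs : ∀ x y, B x y = B y x) {a : Module.End F V}
    (ha : ∀ x y, B (a x) (a y) = B x y) (hnil : IsNilpotent (a - 1)) {μ : Multiset ℕ}
    (hpos : ∀ b ∈ μ, 0 < b) (hrk : ∀ k, rk (a - 1) k = rsum μ k) {W : Submodule F V}
    (hWa : ∀ w ∈ W, a w ∈ W) (hW : ∀ w ∈ W, (∀ w' ∈ W, B w w' = 0) → w = 0) :
    ∃ ν : Multiset ℕ, ν ≤ μ ∧ ν.sum = finrank F W ∧ ∀ e, Even e → Even (ν.count e) := by
  have hrefl : B.IsRefl := fun x y h => by rw [hs]; exact h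
  have hrefl' : (B.restrict W).IsRefl := fun x y h => hrefl x.1 y.1 h
  have hWnd : (B.restrict W).Nondegenerate := by
    refine (hrefl'.nondegenerate_iff_separatingLeft).2 ?_
    intro x hx
    apply Subtype.ext
    exact hW x.1 x.2 (fun w' hw' => hx ⟨w', hw'⟩)
  have hc : IsCompl W (B.orthogonal W) :=
    LinearMap.BilinForm.isCompl_orthogonal_of_restrict_nondegenerate hrefl hWnd
  -- `a` is bijective
  have hau : IsUnit a := by
    have := hnil.isUnit_add_one
    rwa [sub_add_cancel] at this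
  have hainj : Function.Injective ⇑a := ((Module.End.isUnit_iff _).1 hau).1
  have hmap : W.map a = W := by
    apply Submodule.eq_of_le_of_finrank_eq
    · rintro _ ⟨w, hw, rfl⟩
      exact hWa w hw
    · exact LinearEquiv.finrank_eq (Submodule.equivMapOfInjective a hainj W).symm
  have hW'a : ∀ v ∈ B.orthogonal W, a v ∈ B.orthogonal W := by
    intro v hv
    rw [LinearMap.BilinForm.mem_orthogonal_iff] at hv ⊢
    intro w hw
    rw [← hmap] at hw
    obtain ⟨w₀, hw₀, rfl⟩ := hw
    show B (a w₀) (a v) = 0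
    rw [ha]
    exact hv w₀ hw₀
  have hWn : ∀ w ∈ W, (a - 1) w ∈ W := fun w hw => by
    rw [LinearMap.sub_apply, Module.End.one_apply]
    exact W.sub_mem (hWa w hw) hw
  have hW'n : ∀ v ∈ B.orthogonal W, (a - 1) v ∈ B.orthogonal W := fun v hv => by
    rw [LinearMap.sub_apply, Module.End.one_apply]
    exact Submodule.sub_mem _ (hW'a v hv) hv
  obtain ⟨ν, hle, hposν, hrkν⟩ := type_of_isCompl hnil hpos hrk hWn hW'n hc
  refine ⟨ν, hle, ?_, ?_⟩
  · rw [← rsum_zero, ← hrkν, rk_zero]
  · have hres : (a - 1).restrict hWn = a.restrict hWa - 1 := by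
      apply LinearMap.ext
      intro x
      apply Subtype.ext
      rfl
    rw [hres] at hrkν
    have hnilW : IsNilpotent (a.restrict hWa - 1) := by
      rw [← hres]
      obtain ⟨j, hj⟩ := hnil
      refine ⟨j, ?_⟩
      apply LinearMap.ext
      intro x
      apply Subtype.ext
      rw [restrict_pow_apply, hj]
      rfl
    exact even_count_of_isom h2 (B := B.restrict W) (fun x y => hs x.1 y.1)
      (fun x hx => hWnd.1 x hx) (a := a.restrict hWa) (fun x y => ha x.1 y.1) hnilW hposν hrkν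

end Cfsg.Agent.Lib.Helper5.OUnip
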