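import Cfsg.Agent.Lib.Helper5.OUnip.SubRk
import Cfsg.Agent.Lib.Helper5.OUnip.Minus
import Cfsg.Agent.Lib.Helper5.OUnip.MainOdd

set_option autoImplicit false

/-!
# `Ω⁻_{2d}(q)`, `q` odd, on elliptic subspaces: the elements of order `p`
-/

open Cfsg

namespace Cfsg.Agent.Lib.Helper5.OUnip

open Module Matrix Cfsg.Agent.Lib.Helper5.SpUnip

universe u

/-- a sum of even numbers is even -/
theorem even_sum_of_even {ν : Multiset ℕ} (h : ∀ x ∈ ν, Even x) : Even ν.sum := by
  rw [even_iff_two_dvd]
  exact Multiset.dvd_sum fun x hx => even_iff_two_dvd.1 (h x hx)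

/-- replacing the parts `a + 1, a - 1` by `a, a` -/
theorem transfer_pair {a m : ℕ} (ha : Even a) (ha0 : 0 < a) (hme : Even m)
    {μ'' ν' : Multiset ℕ} (hμ'' : ∀ x ∈ μ'', Even x)
    (hle : ν' ≤ (a + 1) ::ₘ (a - 1) ::ₘ μ'') (hsum : ν'.sum = m)
    (hev : ∀ e : ℕ, Even e → Even (ν'.count e)) :
    ∃ ν : Multiset ℕ, ν ≤ a ::ₘ a ::ₘ μ'' ∧ ν.sum = m ∧ ∀ e : ℕ, Even e → Even (ν.count e) := by
  classical
  have ha1 : ¬ Even (a + 1) := by
    rw [Nat.even_add_one]
    exact not_not.2 ha
  have ha2 : ¬ Even (a - 1) := by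
    obtain ⟨t, ht⟩ := ha
    rw [Nat.not_even_iff_odd]
    exact ⟨t - 1, by omega⟩
  set νe := ν'.filter (fun x => Even x) with hνe
  set νo := ν'.filter (fun x => ¬ Even x) with hνo
  have hsplit : νe + νo = ν' := Multiset.filter_add_not _ _
  have hνe_le : νe ≤ μ'' := by
    have h1 := Multiset.filter_le_filter (fun x => Even x) hle
    rw [Multiset.filter_cons_of_neg _ ha1, Multiset.filter_cons_of_neg _ ha2,
      Multiset.filter_eq_self.2 hμ''] at h1
    exact h1
  have hνo_le : νo ≤ (a + 1) ::ₘ (a - 1) ::ₘ 0 := by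
    have h1 := Multiset.filter_le_filter (fun x => ¬ Even x) hle
    rw [Multiset.filter_cons_of_pos (p := fun x => ¬ Even x) _ ha1,
      Multiset.filter_cons_of_pos (p := fun x => ¬ Even x) _ ha2,
      Multiset.filter_eq_nil.2 (fun x hx => not_not.2 (hμ'' x hx))] at h1
    exact h1
  have hνe_even : Even νe.sum :=
    even_sum_of_even fun x hx => (Multiset.mem_filter.1 hx).2
  have hcount : ∀ e : ℕ, Even e → νe.count e = ν'.count e := fun e he =>
    Multiset.count_filter_of_pos he
  have hcard : Multiset.card νo ≤ 2 := by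
    have := Multiset.card_le_card hνo_le
    simpa using this
  have hsum' : νe.sum + νo.sum = m := by
    rw [← Multiset.sum_add, hsplit, hsum]
  rcases Nat.lt_or_ge (Multiset.card νo) 2 with hlt | hge
  · rcases Nat.eq_zero_or_pos (Multiset.card νo) with h0 | hpos
    · -- no odd parts
      have hνo0 : νo = 0 := Multiset.card_eq_zero.1 h0
      refine ⟨ν', ?_, hsum, hev⟩
      rw [← hsplit, hνo0, add_zero]
      exact hνe_le.trans ((Multiset.le_cons_self _ _).trans (Multiset.le_cons_self _ _))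
    · -- one odd part: impossible
      exfalso
      have h1 : Multiset.card νo = 1 := by omega
      obtain ⟨x, hx⟩ := Multiset.card_eq_one.1 h1
      have hxo : ¬ Even x := by
        have : x ∈ νo := by rw [hx]; exact Multiset.mem_singleton_self x
        exact (Multiset.mem_filter.1 this).2
      rw [hx, Multiset.sum_singleton] at hsum'
      apply hxo
      have := (Nat.even_add.1 (hsum' ▸ hme))
      exact this.1 hνe_even
  · -- both odd parts
    have hνo2 : νo = (a + 1) ::ₘ (a - 1) ::ₘ 0 :=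
      Multiset.eq_of_le_of_card_le hνo_le (by simpa using hge)
    refine ⟨a ::ₘ a ::ₘ νe, ?_, ?_, ?_⟩
    · exact Multiset.cons_le_cons _ (Multiset.cons_le_cons _ hνe_le)
    · rw [hνo2] at hsum'
      simp only [Multiset.sum_cons, Multiset.sum_zero] at hsum' ⊢
      omega
    · intro e he
      rw [Multiset.count_cons, Multiset.count_cons, hcount e he]
      obtain ⟨t, ht⟩ := hev e he
      split_ifs
      · exact ⟨t + 1, by omega⟩
      · exact ⟨t, by omega⟩

/-- sub-multisets of `(2^n, 3, 1)` with an even number of twos have sum not `2` modulo `4` -/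
theorem sum_mod_four_of_three_one {n : ℕ} {ν : Multiset ℕ}
    (hle : ν ≤ Multiset.replicate n 2 + {3, 1}) (hev : Even (ν.count 2)) : ν.sum % 4 ≠ 2 := by
  have hmem : ∀ x ∈ ν, x = 1 ∨ x = 2 ∨ x = 3 := by
    intro x hx
    rcases Multiset.mem_add.1 (Multiset.mem_of_le hle hx) with h | h
    · exact Or.inr (Or.inl (Multiset.eq_of_mem_replicate h))
    · simp only [Multiset.insert_eq_cons, Multiset.mem_cons, Multiset.mem_singleton] at h
      rcases h with h | h
      · exact Or.inr (Or.inr h)
      · exact Or.inl h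
  have hsum : ν.sum = ν.count 1 + 2 * ν.count 2 + 3 * ν.count 3 := by
    have hsub : ν.toFinset ⊆ ({1, 2, 3} : Finset ℕ) := by
      intro x hx
      rcases hmem x (Multiset.mem_toFinset.1 hx) with h | h | h <;> simp [h]
    rw [Finset.sum_multiset_count_of_subset ν _ hsub]
    simp
    ring
  have h1 : ν.count 1 ≤ 1 := by
    have := Multiset.count_le_of_le 1 hle
    rw [Multiset.count_add, Multiset.count_replicate] at this
    simpa using this
  have h3 : ν.count 3 ≤ 1 := by
    have := Multiset.count_le_of_le 3 hle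
    rw [Multiset.count_add, Multiset.count_replicate] at this
    simpa using this
  obtain ⟨t, ht⟩ := hev
  rw [hsum]
  have h3' : ν.count 3 = 0 ∨ ν.count 3 = 1 := by omega
  have h1' : ν.count 1 = 0 ∨ ν.count 1 = 1 := by omega
  rcases h3' with h | h <;> rcases h1' with h' | h' <;> rw [h, h', ht] <;> omega

/-- sub-multisets of `(2^n, 1, 1)` with an even number of twos and a part other than two
have sum not `0` modulo `4` -/
theorem sum_mod_four_of_one_one {n : ℕ} {ν : Multiset ℕ}
    (hle : ν ≤ Multiset.replicate n 2 + {1, 1}) (hev : Even (ν.count 2))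
    (hne : ∃ x ∈ ν, x ≠ 2) : ν.sum % 4 ≠ 0 := by
  have hmem : ∀ x ∈ ν, x = 2 ∨ x = 1 := by
    intro x hx
    rcases Multiset.mem_add.1 (Multiset.mem_of_le hle hx) with h | h
    · exact Or.inl (Multiset.eq_of_mem_replicate h)
    · simp only [Multiset.insert_eq_cons, Multiset.mem_cons, Multiset.mem_singleton] at h
      rcases h with h | h <;> exact Or.inr h
  have hsum := sum_two_kinds 2 1 (by decide) ν hmem
  have h1 : ν.count 1 ≤ 2 := by
    have := Multiset.count_le_of_le 1 hle
    rw [Multiset.count_add, Multiset.count_replicate] at this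
    simpa using this
  have h1' : 0 < ν.count 1 := by
    obtain ⟨x, hx, hx2⟩ := hne
    rcases hmem x hx with h | h
    · exact absurd h hx2
    · rw [h] at hx
      exact Multiset.count_pos.2 hx
  obtain ⟨t, ht⟩ := hev
  rw [hsum]
  omega

variable {F : Type u} [Field F]

/-- **S5994**: if every element of order `p` of `Ω⁻_{2d+2}(q)`, `q` odd, fixes an elliptic
`m`-space then `2d+2 ≡ m (mod 4)` and every admissible type has an admissible sub-type of
size `m`. -/
theorem minus_only_if {p : ℕ} [Fact p.Prime] [CharP F p] (hp2 : p ≠ 2) (d m : ℕ) (hd : 1 ≤ d)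
    (hme : Even m) (hm : m ≤ 2 * d + 2) (a b : F)
    (hab : ∀ x y : F, x ^ 2 + a * x * y + b * y ^ 2 = 0 → x = 0 ∧ y = 0)
    (H : ∀ x : GL ((Fin d ⊕ Fin d) ⊕ Fin 2) F,
      x ∈ Cfsg.Geo.omegaGL (Cfsg.quadFormMinus d F a b) →
      (∃ z : F, ((x ^ p : GL ((Fin d ⊕ Fin d) ⊕ Fin 2) F) :
        Matrix ((Fin d ⊕ Fin d) ⊕ Fin 2) ((Fin d ⊕ Fin d) ⊕ Fin 2) F) =
        z • (1 : Matrix ((Fin d ⊕ Fin d) ⊕ Fin 2) ((Fin d ⊕ Fin d) ⊕ Fin 2) F)) →
      (∀ z : F, (x : Matrix ((Fin d ⊕ Fin d) ⊕ Fin 2) ((Fin d ⊕ Fin d) ⊕ Fin 2) F) ≠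
        z • (1 : Matrix ((Fin d ⊕ Fin d) ⊕ Fin 2) ((Fin d ⊕ Fin d) ⊕ Fin 2) F)) →
      ∃ W : Submodule F ((Fin d ⊕ Fin d) ⊕ Fin 2 → F), (Module.finrank F ↥W = m ∧
        Cfsg.Geo.IsNondegenerateOn (QuadraticMap.polar (Cfsg.quadFormMinus d F a b)) W ∧
        ¬ Cfsg.Geo.IsPlusTypeOn (Cfsg.quadFormMinus d F a b) W) ∧
        W.map (Matrix.toLin' (x : Matrix ((Fin d ⊕ Fin d) ⊕ Fin 2)
          ((Fin d ⊕ Fin d) ⊕ Fin 2) F)) ≤ W) :
    (2 * d + 2) % 4 = m % 4 ∧
    ∀ μ : Multiset ℕ, (∀ e ∈ μ, 0 < e ∧ e ≤ p) → (∀ e : ℕ, Even e → Even (μ.count e)) →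
      μ.sum = 2 * d + 2 →
      ∃ ν : Multiset ℕ, ν ≤ μ ∧ ν.sum = m ∧ ∀ e : ℕ, Even e → Even (ν.count e) := by
  have hp : p.Prime := Fact.out
  have hp3 : 3 ≤ p := by
    have := hp.two_le
    omega
  have hpodd : Odd p := hp.odd_of_ne_two hp2
  have hF : ringChar F ≠ 2 := by rw [ringChar.eq F p]; exact hp2
  have h2 : (2 : F) ≠ 0 := Ring.two_ne_zero hF
  -- the types with an odd part
  have stepA : ∀ μ : Multiset ℕ, (∀ e ∈ μ, 0 < e ∧ e ≤ p) →
      (∀ e : ℕ, Even e → Even (μ.count e)) → μ.sum = 2 * d + 2 → (∃ e ∈ μ, Odd e) →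
      (∃ e ∈ μ, e ≠ 1) →
      ∃ ν : Multiset ℕ, ν ≤ μ ∧ ν.sum = m ∧ (∀ e : ℕ, Even e → Even (ν.count e)) ∧
        ∃ x ∈ ν, x ≠ 2 := by
    intro μ hμ hev hsum hodd ⟨a₀, ha₀, ha₀1⟩
    have hpos : ∀ b ∈ μ, 0 < b := fun b hb => (hμ b hb).1
    obtain ⟨g, hgΩ, hgp, hgQ, hgrk⟩ :=
      exists_unipotent_minus (F := F) hp2 d a b hab μ hμ hev hsum hodd
    have hr1 : rsum μ 1 ≠ 0 := by
      rw [Ne, rsum_eq_zero_iff]
      intro h
      have := h a₀ ha₀
      have := (hμ a₀ ha₀).1
      omega
    have hNp : (Matrix.toLin' (g : Matrix ((Fin d ⊕ Fin d) ⊕ Fin 2)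
        ((Fin d ⊕ Fin d) ⊕ Fin 2) F) - 1) ^ p = 0 := by
      rw [← rk_eq_zero_iff, hgrk, rsum_eq_zero_iff]
      exact fun a ha => (hμ a ha).2
    have hne : Nonempty ((Fin d ⊕ Fin d) ⊕ Fin 2) := ⟨Sum.inr 0⟩
    obtain ⟨W, ⟨hWdim, hWnd, hWnp⟩, hWinv⟩ := H g (by rw [← coe_minusForm]; exact hgΩ)
      ⟨1, by rw [hgp, one_smul]; rfl⟩ (by
        intro z hz
        have hl : Matrix.toLin' (g : Matrix ((Fin d ⊕ Fin d) ⊕ Fin 2)
            ((Fin d ⊕ Fin d) ⊕ Fin 2) F) - 1 =
            (z - 1) • (1 : Module.End F ((Fin d ⊕ Fin d) ⊕ Fin 2 → F)) := by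
          rw [hz, Cfsg.Agent.Lib.Helper2.SpImp.toLin'_smul_one_gen]
          apply LinearMap.ext
          intro v
          simp only [LinearMap.sub_apply, LinearMap.smul_apply, Module.End.one_apply]
          rw [_root_.sub_smul, one_smul]
        rw [hl, smul_pow, one_pow] at hNp
        have hz1 : (z - 1) ^ p = 0 := by
          by_contra h0
          have := (smul_eq_zero.1 hNp).resolve_left h0
          have h3 := LinearMap.congr_fun this (fun _ => 1)
          have h4 := congrFun h3 hne.some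
          simp at h4
        have hz' : z - 1 = 0 := pow_eq_zero_iff hp.ne_zero |>.1 hz1
        apply hr1
        rw [← hgrk, hl, hz', zero_smul]
        unfold rk
        simp)
    obtain ⟨ν, hle, hνsum, hνev, hν2⟩ := exists_sub_type_quad_minus h2 (minusForm d F a b) hgQ
      hpos hgrk hWinv (by rw [coe_minusForm]; exact hWnd) (by rw [coe_minusForm]; exact hWnp)
    exact ⟨ν, hle, by rw [hνsum, hWdim], hνev, hν2⟩
  -- the congruence modulo four
  have hmod : (2 * d + 2) % 4 = m % 4 := by
    obtain ⟨m2, hm2⟩ := hme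
    rcases Nat.even_or_odd d with hde | hdo
    · -- `2d + 2 ≡ 2`
      obtain ⟨t, ht⟩ := hde
      by_contra hcon
      obtain ⟨ν, hle, hνsum, hνev, hν2⟩ := stepA (Multiset.replicate d 2 + {1, 1}) (by
          intro e he
          rcases Multiset.mem_add.1 he with h | h
          · rw [Multiset.eq_of_mem_replicate h]
            omega
          · simp only [Multiset.insert_eq_cons, Multiset.mem_cons, Multiset.mem_singleton] at h
            rcases h with h | h <;> · rw [h]; omega) (by
          intro e he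
          rw [Multiset.count_add, Multiset.count_replicate]
          have he1 : e ≠ 1 := by
            rintro rfl
            exact absurd he (by decide)
          have : Multiset.count e ({1, 1} : Multiset ℕ) = 0 := by
            rw [Multiset.count_eq_zero]
            simp [he1]
          rw [this, add_zero]
          split_ifs
          · exact ⟨t, ht⟩
          · exact Even.zero) (by
          rw [Multiset.sum_add, Multiset.sum_replicate, smul_eq_mul]
          simp
          ring) ⟨1, by simp, odd_one⟩ ⟨2, by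
            rw [Multiset.mem_add]
            exact Or.inl (Multiset.mem_replicate.2 ⟨by omega, rfl⟩), by decide⟩
      have := sum_mod_four_of_one_one hle (hνev 2 even_two) hν2
      rw [hνsum] at this
      omega
    · -- `2d + 2 ≡ 0`
      obtain ⟨t, ht⟩ := hdo
      by_contra hcon
      obtain ⟨ν, hle, hνsum, hνev, -⟩ := stepA (Multiset.replicate (d - 1) 2 + {3, 1}) (by
          intro e he
          rcases Multiset.mem_add.1 he with h | h
          · rw [Multiset.eq_of_mem_replicate h]
            omega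
          · simp only [Multiset.insert_eq_cons, Multiset.mem_cons, Multiset.mem_singleton] at h
            rcases h with h | h <;> · rw [h]; omega) (by
          intro e he
          rw [Multiset.count_add, Multiset.count_replicate]
          have he1 : e ≠ 1 := by
            rintro rfl
            exact absurd he (by decide)
          have he3 : e ≠ 3 := by
            rintro rfl
            exact absurd he (by decide)
          have : Multiset.count e ({3, 1} : Multiset ℕ) = 0 := by
            rw [Multiset.count_eq_zero]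
            simp [he1, he3]
          rw [this, add_zero]
          split_ifs
          · exact ⟨t, by omega⟩
          · exact Even.zero) (by
          rw [Multiset.sum_add, Multiset.sum_replicate, smul_eq_mul]
          simp
          omega) ⟨1, by simp, odd_one⟩ ⟨3, by simp, by decide⟩
      have := sum_mod_four_of_three_one hle (hνev 2 even_two)
      rw [hνsum] at this
      omega
  refine ⟨hmod, ?_⟩
  intro μ hμ hev hsum
  by_cases hone : ∀ a ∈ μ, a = 1
  · exact sub_of_ones hone (by omega)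
  push Not at hone
  by_cases hodd : ∃ e ∈ μ, Odd e
  · obtain ⟨ν, hle, hνsum, hνev, -⟩ := stepA μ hμ hev hsum hodd hone
    exact ⟨ν, hle, hνsum, hνev⟩
  · -- all parts are even
    push Not at hodd
    have hall : ∀ x ∈ μ, Even x := fun x hx => Nat.not_odd_iff_even.1 (hodd x hx)
    obtain ⟨a₀, ha₀, -⟩ := hone
    have ha₀e := hall a₀ ha₀
    have ha₀0 := (hμ a₀ ha₀).1
    have hcnt : 2 ≤ μ.count a₀ := by
      have h1 := Multiset.count_pos.2 ha₀
      obtain ⟨t, ht⟩ := hev a₀ ha₀e
      omega
    -- split off the pair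
    obtain ⟨μ₁, hμ₁⟩ := Multiset.exists_cons_of_mem ha₀
    have ha₀' : a₀ ∈ μ₁ := by
      rw [hμ₁, Multiset.count_cons_self] at hcnt
      exact Multiset.count_pos.1 (by omega)
    obtain ⟨μ'', hμ''⟩ := Multiset.exists_cons_of_mem ha₀'
    have hμeq : μ = a₀ ::ₘ a₀ ::ₘ μ'' := by rw [hμ₁, hμ'']
    have hμ''e : ∀ x ∈ μ'', Even x := fun x hx => hall x (by
      rw [hμeq]
      exact Multiset.mem_cons_of_mem (Multiset.mem_cons_of_mem hx))
    have ha₀p : a₀ + 1 ≤ p := by
      have h1 := (hμ a₀ ha₀).2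
      rcases Nat.lt_or_ge a₀ p with h | h
      · exact h
      · exfalso
        have : a₀ = p := le_antisymm h1 h
        rw [this] at ha₀e
        exact (Nat.not_even_iff_odd.2 hpodd) ha₀e
    have ha₀2 : 2 ≤ a₀ := by
      obtain ⟨t, ht⟩ := ha₀e
      omega
    obtain ⟨ν', hle', hν'sum, hν'ev, -⟩ := stepA ((a₀ + 1) ::ₘ (a₀ - 1) ::ₘ μ'') (by
        intro e he
        rcases Multiset.mem_cons.1 he with h | he
        · rw [h]; omega
        rcases Multiset.mem_cons.1 he with h | he
        · rw [h]; omega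
        · exact hμ e (by
            rw [hμeq]
            exact Multiset.mem_cons_of_mem (Multiset.mem_cons_of_mem he))) (by
        intro e he
        have h1 : e ≠ a₀ + 1 := by
          rintro rfl
          rw [Nat.even_add_one] at he
          exact he ha₀e
        have h2' : e ≠ a₀ - 1 := by
          rintro rfl
          obtain ⟨t, ht⟩ := ha₀e
          exact (Nat.not_even_iff_odd.2 ⟨t - 1, by omega⟩) he
        rw [Multiset.count_cons_of_ne h1, Multiset.count_cons_of_ne h2']
        have h3 := hev e he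
        rw [hμeq, Multiset.count_cons, Multiset.count_cons] at h3
        obtain ⟨t, ht⟩ := h3
        split_ifs at ht
        · exact ⟨t - 1, by omega⟩
        · exact ⟨t, by omega⟩) (by
        rw [hμeq] at hsum
        simp only [Multiset.sum_cons] at hsum ⊢
        omega) ⟨a₀ + 1, Multiset.mem_cons_self _ _, by
          rw [← Nat.not_even_iff_odd, Nat.even_add_one]
          exact not_not.2 ha₀e⟩ ⟨a₀ + 1, Multiset.mem_cons_self _ _, by omega⟩
    obtain ⟨ν, hle, hνsum, hνev⟩ := transfer_pair ha₀e ha₀0 hme hμ''e hle' hν'sum hν'ev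
    exact ⟨ν, by rw [hμeq]; exact hle, hνsum, hνev⟩

end Cfsg.Agent.Lib.Helper5.OUnip
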