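import Cfsg.Agent.Lib.Helper5.OUnip.Isom
import Cfsg.Agent.Lib.Helper5.SpUnip.Double

set_option autoImplicit false

/-!
# Models of skew nilpotent endomorphisms of symmetric bilinear forms, with totally singular
subspaces of the largest dimension
-/

namespace Cfsg.Agent.Lib.Helper5.OUnip

open Module Cfsg.Agent.Lib.Helper5.SpUnip

universe u

section defs

variable {F : Type u} [Field F] {V : Type u} [AddCommGroup V] [Module F V]
  {V' : Type u} [AddCommGroup V'] [Module F V']

/-- an orthogonal model: a symmetric nondegenerate form with a skew nilpotent endomorphism -/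
structure IsOM (B : LinearMap.BilinForm F V) (N : Module.End F V) : Prop where
  symm : ∀ x y, B x y = B y x
  nondeg : ∀ x, (∀ y, B x y = 0) → x = 0
  skew : IsSkew B N
  nil : IsNilpotent N

/-- totally singular subspaces -/
def IsTS (B : LinearMap.BilinForm F V) (U : Submodule F V) : Prop :=
  ∀ u ∈ U, ∀ v ∈ U, B u v = 0

theorem IsOM.prod {B : LinearMap.BilinForm F V} {N : Module.End F V}
    {B' : LinearMap.BilinForm F V'} {N' : Module.End F V'} (h : IsOM B N) (h' : IsOM B' N') :
    IsOM (prodB B B') (N.prodMap N') := by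
  refine ⟨fun x y => ?_, fun x hx => ?_, fun x y => ?_, ?_⟩
  · rw [prodB_apply, prodB_apply, h.symm, h'.symm]
  · have e1 : x.1 = 0 := h.nondeg _ (fun y => by simpa using hx (y, 0))
    have e2 : x.2 = 0 := h'.nondeg _ (fun y => by simpa using hx (0, y))
    exact Prod.ext e1 e2
  · simp only [prodB_apply, LinearMap.prodMap_apply, h.skew _ _, h'.skew _ _]
    ring
  · obtain ⟨k, hk⟩ := h.nil
    obtain ⟨k', hk'⟩ := h'.nil
    refine ⟨k + k', ?_⟩
    rw [prodMap_pow, pow_add, hk, zero_mul, pow_add, hk', mul_zero]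
    ext x <;> simp

theorem IsTS.prod {B : LinearMap.BilinForm F V} {B' : LinearMap.BilinForm F V'}
    {U : Submodule F V} {U' : Submodule F V'} (h : IsTS B U) (h' : IsTS B' U') :
    IsTS (prodB B B') (U.prod U') := by
  intro x hx y hy
  rw [prodB_apply, h x.1 hx.1 y.1 hy.1, h' x.2 hx.2 y.2 hy.2, add_zero]

theorem finrank_prod_sub (U : Submodule F V) (U' : Submodule F V') [FiniteDimensional F V]
    [FiniteDimensional F V'] :
    finrank F (U.prod U') = finrank F U + finrank F U' := by
  rw [LinearEquiv.finrank_eq (prodSubEquiv U U'), Module.finrank_prod]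

/-- adjoining a vector outside a subspace -/
theorem finrank_sup_span_of_notMem [FiniteDimensional F V] (U : Submodule F V) {z : V}
    (hz : z ∉ U) : finrank F (U ⊔ Submodule.span F {z} : Submodule F V) = finrank F U + 1 := by
  have hz0 : z ≠ 0 := fun h => hz (h ▸ U.zero_mem)
  have hinf : U ⊓ Submodule.span F {z} = ⊥ := by
    rw [eq_bot_iff]
    rintro x ⟨hxU, hxz⟩
    obtain ⟨t, rfl⟩ := Submodule.mem_span_singleton.1 hxz
    rw [Submodule.mem_bot]
    by_cases ht : t = 0
    · rw [ht, zero_smul]
    · exfalso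
      apply hz
      have := U.smul_mem t⁻¹ hxU
      rwa [smul_smul, inv_mul_cancel₀ ht, one_smul] at this
  have := Submodule.finrank_sup_add_finrank_inf_eq U (Submodule.span F {z})
  rw [hinf, finrank_bot, add_zero, finrank_span_singleton hz0] at this
  exact this

end defs

section models

variable (F : Type u) [Field F]

/-- models of even dimension with a totally singular subspace of half the dimension -/
def EvenModel (μ : Multiset ℕ) : Prop :=
  ∃ (V : Type u) (_ : AddCommGroup V) (_ : Module F V) (_ : FiniteDimensional F V)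
    (B : LinearMap.BilinForm F V) (N : Module.End F V) (U : Submodule F V),
    IsOM B N ∧ (∀ k, rk N k = rsum μ k) ∧ IsTS B U ∧ 2 * finrank F U = finrank F V

/-- models of odd dimension with a totally singular subspace of the largest dimension and a
vector of norm `c` orthogonal to it -/
def OddModel (μ : Multiset ℕ) (c : F) : Prop :=
  ∃ (V : Type u) (_ : AddCommGroup V) (_ : Module F V) (_ : FiniteDimensional F V)
    (B : LinearMap.BilinForm F V) (N : Module.End F V) (U : Submodule F V) (w : V),
    IsOM B N ∧ (∀ k, rk N k = rsum μ k) ∧ IsTS B U ∧ 2 * finrank F U + 1 = finrank F V ∧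
      (∀ u ∈ U, B w u = 0) ∧ B w w = c

variable {F}

theorem evenModel_zero : EvenModel F 0 := by
  refine ⟨PUnit, inferInstance, inferInstance, inferInstance, 0, 0, ⊥,
    ⟨fun _ _ => rfl, fun x _ => Subsingleton.elim _ _, fun _ _ => by simp, ⟨1, by simp⟩⟩,
    fun k => ?_, fun _ _ _ _ => rfl, ?_⟩
  · unfold rk rsum
    rw [Module.finrank_zero_of_subsingleton]
    simp
  · rw [Module.finrank_zero_of_subsingleton, Module.finrank_zero_of_subsingleton]

theorem EvenModel.add {μ ν : Multiset ℕ} (h : EvenModel F μ) (h' : EvenModel F ν) :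
    EvenModel F (μ + ν) := by
  obtain ⟨V, i1, i2, i3, B, N, U, hOM, hrk, hTS, hdim⟩ := h
  obtain ⟨V', j1, j2, j3, B', N', U', hOM', hrk', hTS', hdim'⟩ := h'
  refine ⟨V × V', inferInstance, inferInstance, inferInstance, prodB B B', N.prodMap N',
    U.prod U', hOM.prod hOM', fun k => ?_, hTS.prod hTS', ?_⟩
  · rw [rk_prod, hrk, hrk', rsum_add]
  · rw [finrank_prod_sub, Module.finrank_prod]
    omega

theorem EvenModel.add_odd {μ ν : Multiset ℕ} {c : F} (h : EvenModel F μ) (h' : OddModel F ν c) :
    OddModel F (μ + ν) c := by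
  obtain ⟨V, i1, i2, i3, B, N, U, hOM, hrk, hTS, hdim⟩ := h
  obtain ⟨V', j1, j2, j3, B', N', U', w, hOM', hrk', hTS', hdim', hw, hww⟩ := h'
  refine ⟨V × V', inferInstance, inferInstance, inferInstance, prodB B B', N.prodMap N',
    U.prod U', (0, w), hOM.prod hOM', fun k => ?_, hTS.prod hTS', ?_, ?_, ?_⟩
  · rw [rk_prod, hrk, hrk', rsum_add]
  · rw [finrank_prod_sub, Module.finrank_prod]
    omega
  · intro u hu
    rw [prodB_apply]
    simp [hw u.2 hu.2]
  · rw [prodB_apply]
    simp [hww]

theorem OddModel.add_odd {μ ν : Multiset ℕ} {c : F} (hc : c ≠ 0) (h : OddModel F μ c)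
    (h' : OddModel F ν (-c)) : EvenModel F (μ + ν) := by
  obtain ⟨V, i1, i2, i3, B, N, U, w, hOM, hrk, hTS, hdim, hw, hww⟩ := h
  obtain ⟨V', j1, j2, j3, B', N', U', w', hOM', hrk', hTS', hdim', hw', hww'⟩ := h'
  have hz : ((w, w') : V × V') ∉ U.prod U' := by
    intro hmem
    have := hTS w hmem.1 w hmem.1
    rw [hww] at this
    exact hc this
  refine ⟨V × V', inferInstance, inferInstance, inferInstance, prodB B B', N.prodMap N',
    U.prod U' ⊔ Submodule.span F {(w, w')}, hOM.prod hOM', fun k => ?_, ?_, ?_⟩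
  · rw [rk_prod, hrk, hrk', rsum_add]
  · -- totally singular
    have hsym := (hOM.prod hOM').symm
    have h1 : ∀ u ∈ U.prod U', prodB B B' (w, w') u = 0 := by
      intro u hu
      rw [prodB_apply]
      simp [hw u.1 hu.1, hw' u.2 hu.2]
    have h2 : prodB B B' (w, w') (w, w') = 0 := by
      rw [prodB_apply]
      simp [hww, hww']
    intro x hx y hy
    obtain ⟨x₁, hx₁, x₂, hx₂, rfl⟩ := Submodule.mem_sup.1 hx
    obtain ⟨y₁, hy₁, y₂, hy₂, rfl⟩ := Submodule.mem_sup.1 hy
    obtain ⟨s, rfl⟩ := Submodule.mem_span_singleton.1 hx₂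
    obtain ⟨t, rfl⟩ := Submodule.mem_span_singleton.1 hy₂
    simp only [map_add, map_smul, LinearMap.add_apply, LinearMap.smul_apply, smul_eq_mul]
    rw [(hTS.prod hTS') x₁ hx₁ y₁ hy₁, h1 y₁ hy₁, hsym x₁ (w, w'), h1 x₁ hx₁, h2]
    ring
  · rw [finrank_sup_span_of_notMem _ hz, finrank_prod_sub, Module.finrank_prod]
    omega

end models

end Cfsg.Agent.Lib.Helper5.OUnip
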