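import Cfsg.Agent.Lib.Helper5.OUnip.Hyp
import Cfsg.Agent.Lib.Helper5.OUnip.OmegaOdd
import Cfsg.Agent.Lib.Helper5.OrthCard
import Cfsg.Agent.Lib.Helper5.PlusGeom
import Cfsg.Agent.Lib.Helper2.SpImpE
import Cfsg.Prelude.Def_GeometricClasses

set_option autoImplicit false

/-!
# Unipotent elements of every admissible type in `Ω⁺_{2d}(q)`, `q` odd
-/

open Cfsg

namespace Cfsg.Agent.Lib.Helper5.OUnip

open Module Matrix Cfsg.Agent.Lib.Helper5.SpUnip Cfsg.Agent.Lib.Helper5.CartanDieudonne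

universe u

variable {F : Type u} [Field F]

/-- conjugating an endomorphism by a linear equivalence: powers -/
theorem conj_pow_apply {V V' : Type*} [AddCommGroup V] [Module F V] [AddCommGroup V']
    [Module F V'] (φ : V ≃ₗ[F] V') (a : Module.End F V) (k : ℕ) (v : V') :
    ((φ.conj a) ^ k) v = φ ((a ^ k) (φ.symm v)) := by
  induction k generalizing v with
  | zero => simp
  | succ k ih =>
    rw [pow_succ, Module.End.mul_apply, ih, LinearEquiv.conj_apply_apply,
      LinearEquiv.symm_apply_apply, pow_succ, Module.End.mul_apply]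

theorem exists_unipotent_plus {p : ℕ} [Fact p.Prime] [CharP F p] (hp2 : p ≠ 2) (d : ℕ)
    (μ : Multiset ℕ) (hμ : ∀ a ∈ μ, 0 < a ∧ a ≤ p) (hev : ∀ e : ℕ, Even e → Even (μ.count e))
    (hsum : μ.sum = 2 * d) :
    ∃ g : GL (Fin d ⊕ Fin d) F, g ∈ Cfsg.Geo.omegaGL ⇑(plusForm d F) ∧ g ^ p = 1 ∧
      (∀ v, plusForm d F (Matrix.toLin' (g : Matrix (Fin d ⊕ Fin d) (Fin d ⊕ Fin d) F) v) =
        plusForm d F v) ∧
      ∀ k, rk (Matrix.toLin' (g : Matrix (Fin d ⊕ Fin d) (Fin d ⊕ Fin d) F) - 1) k =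
        rsum μ k := by
  have hp : p.Prime := Fact.out
  have hF : ringChar F ≠ 2 := by rw [ringChar.eq F p]; exact hp2
  have h2 : (2 : F) ≠ 0 := Ring.two_ne_zero hF
  have hpodd : Odd p := hp.odd_of_ne_two hp2
  obtain ⟨hE, -⟩ := exists_models (F := F) one_ne_zero _ μ rfl (fun a ha => (hμ a ha).1) hev
  obtain ⟨V, i1, i2, i3, B, N, U, hOM, hrk, hTS, hdim⟩ := hE (hsum ▸ even_two_mul d)
  have hdV : finrank F V = 2 * d := by rw [← rk_zero N, hrk, rsum_zero, hsum]
  have hdU : finrank F U = d := by omega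
  have hNp : N ^ p = 0 := by
    rw [← rk_eq_zero_iff, hrk, rsum_eq_zero_iff]
    exact fun a ha => (hμ a ha).2
  obtain ⟨a, hr, har, hpow⟩ := exists_of_nilpotent hOM.nil
  have hap0 : (a - 1) ^ p = 0 := hpow p hNp
  have hap : a ^ p = 1 := by
    have := sub_one_pow_char (F := F) (p := p) a
    rw [hap0] at this
    exact (sub_eq_zero.1 this.symm)
  have hnila : IsNilpotent (a - 1) := ⟨p, hap0⟩
  have hu : IsUnit (a + 1) := isUnit_add_one_of_nilpotent h2 hnila
  have hiso := isom_of_cayRel hOM.skew hOM.nil har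
  have hrka : ∀ k, rk (a - 1) k = rsum μ k := fun k => by rw [rk_of_cayRel hu hr k, hrk]
  obtain ⟨φ, hφ⟩ := exists_std_equiv h2 hOM.symm hOM.nondeg hTS hdU hdV
  -- the transported isometry
  have hau : IsUnit a := by
    have := hnila.isUnit_add_one
    rwa [sub_add_cancel] at this
  have hxu : IsUnit (φ.conj a) := hau.map φ.conjRingEquiv
  have hxQ : ∀ v, plusForm d F ((φ.conj a) v) = plusForm d F v := by
    intro v
    rw [plusForm_apply, plusForm_apply, LinearEquiv.conj_apply_apply, hφ, hiso,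
      ← hφ, LinearEquiv.apply_symm_apply]
  obtain ⟨A, hA⟩ := OrthCard.exists_isom_of_linearEquiv (plusForm d F)
    (LinearMap.GeneralLinearGroup.generalLinearEquiv F _ hxu.unit) (fun v => hxQ v)
  have hAl : Matrix.toLin' ((A : GL (Fin d ⊕ Fin d) F) : Matrix (Fin d ⊕ Fin d) (Fin d ⊕ Fin d) F)
      = φ.conj a := by
    apply LinearMap.ext
    intro v
    rw [Matrix.toLin'_apply]
    exact hA v
  have hAp : A ^ p = 1 := by
    apply Subtype.ext
    apply Units.ext
    apply Matrix.toLin'.injective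
    show Matrix.toLin' (((A : GL (Fin d ⊕ Fin d) F) : Matrix (Fin d ⊕ Fin d) (Fin d ⊕ Fin d) F) ^ p)
      = Matrix.toLin' (1 : Matrix (Fin d ⊕ Fin d) (Fin d ⊕ Fin d) F)
    rw [Cfsg.Agent.Lib.Helper2.SpImp.toLin'_pow_gen, hAl, Matrix.toLin'_one]
    apply LinearMap.ext
    intro v
    rw [conj_pow_apply, hap]
    simp
  have hAΩ : A ∈ Omega F ⇑(plusForm d F) :=
    mem_Omega_of_pow h2 (plusForm d F) (PlusGeom.plus_nondegenerate d) A hpodd hAp
  refine ⟨(A : GL (Fin d ⊕ Fin d) F), Subgroup.mem_map.2 ⟨A, hAΩ, rfl⟩, ?_, ?_, ?_⟩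
  · have := congrArg Subtype.val hAp
    exact this
  · intro v
    rw [hAl]
    exact hxQ v
  · intro k
    rw [hAl, ← hrka k]
    symm
    refine rk_iso (B := 0) (B' := 0) ⟨φ, fun _ _ => rfl, fun v => ?_⟩ k
    simp [LinearEquiv.conj_apply_apply]

end Cfsg.Agent.Lib.Helper5.OUnip
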